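import Cfsg.Agent.FusionLayer.Residual.Normal
import Cfsg.Agent.Fusion.PPowerIndexNormal
import Cfsg.Agent.Fusion.PPowerIndex
import Cfsg.Agent.FusionPIndex.Limit
import Cfsg.Agent.FusionNormal.GoodLift

/-!
# Residual limits are monotone along weakly normal subsystems

* `residual_le_of_isWeaklyNormalIn`: the `p'`-residual of a weakly normal subsystem lies in every
  saturated subsystem of index prime to `p`.
* `exists_limit`: residual limits exist.
* `limit_le`: the residual limit of a weakly normal subsystem lies in that of the system.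
* `limit_eq_of_index`: a normal subsystem of index prime to `p` has the same residual limit.
-/

set_option autoImplicit false
set_option linter.unusedSectionVars false
set_option linter.style.haveILetI false

universe u

namespace CfsgLib.FusionEnvelope

open Cfsg Cfsg.FusionSystem CfsgLib.Fusion CfsgLib.FusionAgemo CfsgLib.FusionClosed
  CfsgLib.FusionPIndex
open CfsgLib.PrimeToPIndex (pGen)
open CfsgLib.PPrimeResidual (infSystem)
open CfsgLib.PPowerIndexNormal (img transport)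

variable {Ω : Type u} [Group Ω] {S T U : Subgroup Ω} {p : ℕ}

/-- The `p'`-residual lies in every system containing the automorphisms of `p`-power order of the
centric subgroups which is closed under extension. -/
theorem residual_le_of_closed [Finite S] [Fact p.Prime] (hS : IsPGroup p S) {X W D : FusionSystem S}
    (hX : X.IsSaturated p) (hWX : W.IsSubsystemOf X)
    (hgen : ∀ P : Subgroup Ω, X.IsCentric P →
      (pGen p X P).map (X.autGroup P).subtype ≤ W.autGroup P)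
    (hclosed : ∀ (R N : Subgroup Ω) (hRN : R ≤ N), N ≤ normalizerIn S R → X.IsCentric R →
      ∀ ψ ∈ X.Hom N, restrictHom ψ hRN ∈ W.Hom R → ψ ∈ W.Hom N)
    (hD : X.IsPPrimeResidual p D) : D.IsSubsystemOf W := by
  obtain ⟨F₁, hF₁⟩ : ∃ F₁, F₁ = infSystem W
      {Y : FusionSystem S | ∀ P : Subgroup Ω, X.IsCentric P → W.Hom P ⊆ Y.Hom P} := ⟨_, rfl⟩
  have hle : ∀ (P : Subgroup Ω), F₁.Hom P ⊆ W.Hom P := fun P φ h => (hF₁ ▸ h :
    φ ∈ (infSystem W {Y : FusionSystem S | ∀ P : Subgroup Ω, X.IsCentric P →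
      W.Hom P ⊆ Y.Hom P}).Hom P).1
  have hge : ∀ P : Subgroup Ω, X.IsCentric P → W.Hom P ⊆ F₁.Hom P := fun P hP φ h =>
    hF₁ ▸ ⟨h, fun Y hY => hY P hP h⟩
  have hsub : F₁.IsSubsystemOf X := fun P φ h => hWX P (hle P h)
  have hgenP : ∀ P : Subgroup Ω, X.IsCentric P →
      (pGen p X P).map (X.autGroup P).subtype ≤ F₁.autGroup P := fun P hP α hα =>
    IsIso.mem_autGroup (hge P hP ((mem_autGroup_iff hP.1).1 (hgen P hP hα)))
  obtain ⟨hidx, hdec, hcen⟩ := CfsgLib.PrimeToPIndex.main hS hX hsub hgenP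
  have hsat : F₁.IsSaturated p := by
    refine CfsgLib.SatCriterion.isSaturated hS {P | X.IsCentric P} (fun P hP Q hQ => ?_) ?_ ?_ ?_
    · obtain ⟨φ, hφ, hr⟩ := hQ
      exact isCentric_of_isConj hP ⟨φ, hsub P hφ, hr⟩
    swap
    · intro Y hY P φ h
      subst hF₁
      exact h.2 Y fun R hR => (hge R hR).trans (hY R hR)
    swap
    · exact fun P hP hnP => absurd ((hcen P).1 hP) hnP
    intro P hP
    obtain ⟨Q, hPQ, hQ⟩ := exists_fullyNormalized (F := X) hP.1
    obtain ⟨φ, hφ, hr⟩ := id hPQ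
    obtain ⟨α, hα, φ₀, hφ₀, hv⟩ := hdec P φ hφ
    have hφ₀F := hsub P hφ₀
    refine ⟨φ₀.range, ⟨φ₀, hφ₀, rfl⟩, ?_⟩
    have hQ₀c : X.IsCentric φ₀.range := isCentric_of_isConj hP ⟨φ₀, hφ₀F, rfl⟩
    have hQ₀ : X.IsFullyNormalized φ₀.range := by
      refine CfsgLib.PPrimeResidual.isFullyNormalized_aut hQ (α := α⁻¹)
        (isConj_trans (isConj_symm hPQ) ⟨φ₀, hφ₀F, rfl⟩) fun x hx => ?_
      obtain ⟨y, hy⟩ : (x : Ω) ∈ φ.range := hr ▸ hx
      refine ⟨y, ?_⟩
      rw [show x = α ⟨φ₀ y, apply_mem hφ₀F y⟩ from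
        Subtype.ext (hy.symm.trans (hv y (apply_mem hφ₀F y))), MulAut.inv_apply_self]
    haveI := finite_of_le hQ₀.1
    obtain ⟨hQa, hQr⟩ := automized_receptive hS hX hQ₀
    refine ⟨⟨hQ₀.1, ?_⟩, hQ₀.1, fun R θ hθ hθr => ?_⟩
    · exact IsSylowIn.mono (H := X.autGroup φ₀.range) hQa.2 (autInducedBy_le_autGroup hQ₀.1)
        fun β hβ => (mem_autGroup_iff hQ₀.1).2 (hsub _ ((mem_autGroup_iff hQ₀.1).1 hβ))
    · obtain ⟨ψ, hψ, hψv⟩ := hQr.2 R θ (hsub R hθ) hθr
      have hRc : X.IsCentric R := isCentric_of_isConj hQ₀c (isConj_symm ⟨θ, hsub R hθ, hθr⟩)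
      have hRN : R ≤ extender S R θ := le_extender hRc.1 fun x => apply_mem hθ x
      have hNc : X.IsCentric (extender S R θ) := isCentric_of_le hRc hRN (le_left hψ)
      exact ⟨ψ, hge _ hNc (hclosed R _ hRN (extender_le_normalizerIn θ) hRc ψ hψ
        (mem_congr (hle R hθ) fun x => hψv x x.2 (hRN x.2))), hψv⟩
  exact fun P φ h => hle P (hD.2.2 F₁ hsat hidx P h)

/-- An invariant subsystem is invariant in a saturated system between. -/
theorem invariant_of_le [Finite S] [Fact p.Prime] (hS : IsPGroup p S) {E : FusionSystem T}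
    {D : FusionSystem U} {F : FusionSystem S} (hinv : E.IsInvariantIn F) (hD : D.IsSaturated p)
    (hDF : D.IsSubsystemOf F) (hED : E.IsSubsystemOf D) : E.IsInvariantIn D := by
  have hUS : U ≤ S := le_left (hDF U (subtype_mem le_rfl))
  have hTU : T ≤ U := le_left (hED T (subtype_mem le_rfl))
  haveI := finite_of_le hUS
  refine invariant_of_strongInvariant (hS.to_le hUS) hD hED
    ⟨hTU, fun R hR φ hφ x => hinv.2.1.2 R hR φ (hDF R hφ) x⟩ ?_
  intro P Q hPQ hQT φ hφ hφQ ψ hψ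
  exact strongInvariant_of_invariant hinv P Q hPQ hQT φ hφ hφQ ψ (hDF Q hψ)

/-- A weakly normal subsystem is weakly normal in a saturated system between. -/
theorem weaklyNormal_of_le [Finite S] [Fact p.Prime] (hS : IsPGroup p S) {E : FusionSystem T}
    {D : FusionSystem U} {F : FusionSystem S} (h : E.IsWeaklyNormalIn F p) (hD : D.IsSaturated p)
    (hDF : D.IsSubsystemOf F) (hED : E.IsSubsystemOf D) : E.IsWeaklyNormalIn D p :=
  ⟨h.1, hD, invariant_of_le hS h.2.2 hD hDF hED⟩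

/-- Invariance composed: strong closure and the Frattini condition. -/
theorem closed_frattini_comp {A : FusionSystem U} {X : FusionSystem T} {Y : FusionSystem S}
    (hXY : X.IsInvariantIn Y) (hAX : A.IsInvariantIn X)
    (hU : ∀ a ∈ Y.autGroup T, ∀ x : T, (x : Ω) ∈ U → ((a x : T) : Ω) ∈ U) [Finite T] :
    Y.StronglyClosed U ∧ ∀ (P : Subgroup Ω), P ≤ U → ∀ (φ : P →* Ω), φ ∈ Y.Hom P →
      ∃ α ∈ Y.autGroup U, ∃ φ₀ ∈ A.Hom P,
        ∀ (x : P) (hx : φ₀ x ∈ U), φ x = ((α ⟨φ₀ x, hx⟩ : U) : Ω) := by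
  have hUT := hAX.2.1.1
  have hTS := hXY.2.1.1
  refine ⟨⟨hUT.trans hTS, fun R hR φ hφ x => ?_⟩, fun P hP φ hφ => ?_⟩
  · obtain ⟨a, ha, φ₀, hφ₀, hv⟩ := hXY.2.2.2 R (hR.trans hUT) φ hφ
    rw [hv x (apply_mem hφ₀ x)]
    exact hU a ha _ (hAX.2.1.2 R hR φ₀ hφ₀ x)
  obtain ⟨a, ha, φ₁, hφ₁, hv⟩ := hXY.2.2.2 P (hP.trans hUT) φ hφ
  obtain ⟨b, hb, φ₀, hφ₀, hv₁⟩ := hAX.2.2.2 P hP φ₁ hφ₁
  haveI := finite_of_le hUT
  obtain ⟨f, hf, hr⟩ : ∃ f ∈ Y.Hom U, f.range = U ∧
      ∀ x : U, f x = ((a ⟨x, hUT x.2⟩ : T) : Ω) := by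
    refine ⟨restrictHom (T.subtype.comp a.toMonoidHom) hUT,
      restrict_mem ((mem_autGroup_iff hTS).1 ha) hUT, ?_, fun x => rfl⟩
    refine Subgroup.eq_of_le_of_card_ge ?_ ?_
    · rintro _ ⟨x, rfl⟩
      exact hU a ha _ x.2
    · rw [range_restrictHom, card_imgHom (Y.injective_of_mem ((mem_autGroup_iff hTS).1 ha)) hUT]
  obtain ⟨a', ha', ha'v⟩ := exists_iso hf hr.1
  have hbY : b ∈ Y.autGroup U :=
    (mem_autGroup_iff (hUT.trans hTS)).2 (hXY.1 U ((mem_autGroup_iff hUT).1 hb))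
  refine ⟨(a' : MulAut U) * b, mul_mem ha'.mem_autGroup hbY, φ₀, hφ₀, fun x hx => ?_⟩
  rw [hv x (apply_mem hφ₁ x)]
  show _ = (a' (b ⟨φ₀ x, hx⟩) : Ω)
  rw [ha'v, hr.2]
  exact congrArg (fun w : T => (a w : Ω)) (Subtype.ext (hv₁ x hx))

/-- The `p'`-residual of a weakly normal subsystem lies in the saturated subsystems of index prime
to `p`. -/
theorem residual_le_of_isWeaklyNormalIn [Finite S] [Fact p.Prime] (hS : IsPGroup p S)
    {X D : FusionSystem T} {Y Z : FusionSystem S} (hn : X.IsWeaklyNormalIn Y p)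
    (hD : X.IsPPrimeResidual p D) (hZs : Z.IsSaturated p) (hZi : Z.HasPrimeToPIndexIn Y p) :
    D.IsSubsystemOf Z := by
  obtain ⟨hX, hY, hinv⟩ := hn
  have hT := hinv.2.1
  haveI := finite_of_le hT.1
  let W : FusionSystem T :=
    { Hom := fun P => {φ | φ ∈ X.Hom P ∧ φ ∈ Z.Hom P}
      le_of_mem := fun h => X.le_of_mem h.1
      injective_of_mem := fun h => X.injective_of_mem h.1
      conj_mem := fun hP hg => ⟨X.conj_mem hP hg, Z.conj_mem (hP.trans hT.1) (hT.1 hg)⟩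
      comp_mem := fun hφ hψ hle => ⟨X.comp_mem hφ.1 hψ.1 hle, Z.comp_mem hφ.2 hψ.2 hle⟩
      inv_mem := fun {P φ} hφ => by
        obtain ⟨ψ, hψ, hv⟩ := X.inv_mem hφ.1
        obtain ⟨ψ', hψ', hv'⟩ := Z.inv_mem hφ.2
        refine ⟨ψ, ⟨hψ, mem_congr hψ' ?_⟩, hv⟩
        rintro ⟨_, x, rfl⟩
        rw [hv x, hv' x] }
  have hDW : D.IsSubsystemOf W := by
    refine residual_le_of_closed (hS.to_le hT.1) hX (fun P φ h => h.1) (fun P hP => ?_)
      (fun R N hRN hN hR ψ hψ hψR => ?_) hD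
    · have hPS := hP.1.trans hT.1
      have hleA : X.autGroup P ≤ Y.autGroup P := fun β hβ =>
        (mem_autGroup_iff hPS).2 (hinv.1 P ((mem_autGroup_iff hP.1).1 hβ))
      rw [MonoidHom.map_closure, Subgroup.closure_le]
      rintro _ ⟨a, ⟨k, hk⟩, rfl⟩
      refine IsIso.mem_autGroup ⟨(mem_autGroup_iff hP.1).1 a.2, (mem_autGroup_iff hPS).1
        (hZi.2 P hPS ⟨Subgroup.inclusion hleA a, Subgroup.subset_closure ⟨k, ?_⟩, rfl⟩)⟩
      rw [orderOf_injective _ (Subgroup.inclusion_injective hleA), hk]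
    refine ⟨hψ, ?_⟩
    have hψY := hinv.1 N hψ
    have hNT : N ≤ T := hN.trans (normalizerIn_le T R)
    have hRS : R ≤ S := hR.1.trans hT.1
    haveI := finite_of_le hRS
    haveI := finite_of_le (hNT.trans hT.1)
    have hIS : imgHom ψ R ≤ S := imgHom_le hψY R
    -- a fully normalized conjugate in `Z`
    obtain ⟨-, hdec, -⟩ := CfsgLib.PrimeToPIndex.main hS hY hZi.1 fun P hP => hZi.2 P hP.1
    obtain ⟨Q, hQc, hQ⟩ := exists_fullyNormalized (F := Y) hIS
    obtain ⟨φ, hφ, hr⟩ := id hQc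
    obtain ⟨α, hα, φ₁, hφ₁, hv⟩ := hdec _ φ hφ
    have hQ₁ : Y.IsFullyNormalized φ₁.range := by
      refine CfsgLib.PPrimeResidual.isFullyNormalized_aut hQ (α := α⁻¹)
        (isConj_trans (isConj_symm hQc) ⟨φ₁, hZi.1 _ hφ₁, rfl⟩) fun x hx => ?_
      obtain ⟨y, hy⟩ : (x : Ω) ∈ φ.range := hr ▸ hx
      refine ⟨y, ?_⟩
      rw [show x = α ⟨φ₁ y, apply_mem hφ₁ y⟩ from
        Subtype.ext (hy.symm.trans (hv y (apply_mem hφ₁ y))), MulAut.inv_apply_self]
    have hQ₁Z : Z.IsFullyNormalized φ₁.range := ⟨hQ₁.1, fun Q' ⟨f, hf, hfr⟩ =>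
      hQ₁.2 Q' ⟨f, hZi.1 _ hf, hfr⟩⟩
    obtain ⟨hQa, hQr⟩ := automized_receptive hS hZs hQ₁Z
    obtain ⟨μ, hμ, -, hμimg⟩ := exists_map_normalizerIn hS hQa hQr ⟨φ₁, hφ₁, rfl⟩
    have hψn : ∀ x : N, ψ x ∈ normalizerIn S (imgHom ψ R) := by
      intro x
      haveI := finite_of_le hIS
      refine ⟨apply_mem hψY x, CfsgLib.SatCriterion.mem_normalizer_of_finite ?_⟩
      rintro _ ⟨y, hy, rfl⟩
      rw [← map_inv, ← map_mul, ← map_mul]
      exact apply_mem_imgHom ψ (x := x * y * x⁻¹)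
        ((Subgroup.mem_normalizer_iff.1 (hN x.2).2 (y : Ω)).1 hy)
    let ψ₁ : N →* Ω := μ.comp (ψ.codRestrict _ hψn)
    have hψ₁ : ψ₁ ∈ Y.Hom N := Y.comp_mem hψY (hZi.1 _ hμ) hψn
    let θ : R →* Ω := μ.comp ((restrictHom ψ hRN).codRestrict _ fun x => hψn _)
    have hθ : θ ∈ Z.Hom R := Z.comp_mem hψR.2 hμ _
    have hθr : θ.range = φ₁.range := by
      rw [← hμimg]
      ext y
      constructor
      · rintro ⟨x, rfl⟩
        exact ⟨⟨ψ ⟨x, hRN x.2⟩, hψn _⟩, ⟨⟨x, hRN x.2⟩, x.2, rfl⟩, rfl⟩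
      · rintro ⟨w, ⟨x, hx, hxw⟩, rfl⟩
        exact ⟨⟨x, hx⟩, congrArg μ (Subtype.ext hxw)⟩
    obtain ⟨ψ', hψ', hψ'v⟩ := hQr.2 R θ hθ hθr
    have hext : N ≤ extender S R θ := fun g hg => inf_normalizer_le_extender hψ₁ hRN
      (fun x => rfl) ⟨hg, (hN hg).2⟩
    let ψ₂ := restrictHom ψ' hext
    have hψ₂ : ψ₂ ∈ Z.Hom N := restrict_mem hψ' hext
    have hag : ∀ x : R, ψ₁ ⟨x, hRN x.2⟩ = ψ₂ ⟨x, hRN x.2⟩ := fun x =>
      (hψ'v x x.2 (hext (hRN x.2))).symm
    have hψ₁T : ∀ x, ψ₁ x ∈ T := fun x => apply_mem_stronglyClosed hT hψ₁ (hNT x.2)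
    have hψ₂T : ∀ x, ψ₂ x ∈ T := fun x => apply_mem_stronglyClosed hT (hZi.1 _ hψ₂) (hNT x.2)
    have hC : centralizerIn T (imgHom ψ₂ R) ≤ imgHom ψ₂ R :=
      CfsgLib.FusionNormal.centralizerIn_le_of_isConj hinv hR
        (isConj_restrict (hZi.1 _ hψ₂) hRN)
    obtain ⟨δ, hpow, hδv⟩ := CfsgLib.PPrimeResidual.exists_delta hRN (fun g hg => (hN hg).2)
      hψ₁T hψ₂T (Y.injective_of_mem hψ₁) (Z.injective_of_mem hψ₂) hC hag
    obtain ⟨e', he', he'v⟩ := exists_iso_range (hZi.1 _ hψ₂)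
    have hδY : IsIso Y δ := mem_of_comp hψ₁ he'.symm (fun g => ⟨δ g, (hδv g).symm⟩) fun g => by
      show (δ g : Ω) = (e'.symm ⟨ψ₁ g, _⟩ : Ω)
      rw [show (⟨ψ₁ g, ⟨δ g, (hδv g).symm⟩⟩ : ψ₂.range) = e' (δ g) from
        Subtype.ext ((hδv g).trans (he'v _).symm), e'.symm_apply_apply]
    obtain ⟨j, hj⟩ := (hS.to_le hRS).exists_card_eq
    obtain ⟨i, -, hi⟩ := (Nat.dvd_prime_pow (Fact.out : p.Prime)).1
      (orderOf_dvd_of_pow_eq_one (by rw [← hj]; exact hpow) : orderOf δ ∣ p ^ j)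
    have hδZ : IsIso Z δ := (mem_autGroup_iff (hNT.trans hT.1)).1 (hZi.2 N (hNT.trans hT.1)
      ⟨⟨δ, hδY.mem_autGroup⟩, Subgroup.subset_closure ⟨i, by rw [← hi, ← Subgroup.orderOf_coe]⟩,
        rfl⟩)
    have hψ₁Z : ψ₁ ∈ Z.Hom N := mem_of_comp hδZ hψ₂ (fun g => (δ g).2) hδv
    obtain ⟨eμ, heμ, heμv⟩ := exists_iso_range hμ
    refine mem_of_comp hψ₁Z heμ.symm (fun g => ⟨⟨ψ g, hψn g⟩, rfl⟩) fun g => ?_
    show ψ g = (eμ.symm ⟨ψ₁ g, _⟩ : Ω)
    rw [show (⟨ψ₁ g, ⟨⟨ψ g, hψn g⟩, rfl⟩⟩ : μ.range) = eμ ⟨ψ g, hψn g⟩ from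
      Subtype.ext (heμv _).symm, eμ.symm_apply_apply]
  exact fun P φ h => (hDW P h).2

/-- The `p`-residual of a weakly normal subsystem is weakly normal. -/
theorem weaklyNormal_pResidual [Finite S] [Fact p.Prime] (hS : IsPGroup p S)
    {X : FusionSystem T} {Y : FusionSystem S} (hn : X.IsWeaklyNormalIn Y p)
    {D : FusionSystem (X.hyperfocalSubgroup p)} (hD : X.IsPResidual p D) :
    D.IsWeaklyNormalIn Y p := by
  obtain ⟨hX, hY, hinv⟩ := hn
  have hTS := hinv.2.1.1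
  haveI := finite_of_le hTS
  have hTp := hS.to_le hTS
  have hsi := strongInvariant_of_invariant hinv
  obtain ⟨H, hH⟩ : ∃ H, H = X.hyperfocalSubgroup p := ⟨_, rfl⟩
  have hclH := CfsgLib.Fusion.stronglyClosed_hyperfocal hTp hX
  have hHT : X.hyperfocalSubgroup p ≤ T := hclH.1
  haveI := finite_of_le hHT
  have hDn := CfsgLib.PPowerIndexNormal.isNormalIn_of_pPowerIndex hTp hX hHT
    (fun s hs t ht => conj_mem_stronglyClosed hclH hs ht) hD.1 hD.2
  have hpres : ∀ a ∈ Y.autGroup T, ∀ x : T, (x : Ω) ∈ X.hyperfocalSubgroup p →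
      ((a x : T) : Ω) ∈ X.hyperfocalSubgroup p := by
    intro a ha
    have hle : X.hyperfocalSubgroup p ≤
        ((X.hyperfocalSubgroup p).comap (T.subtype.comp a.toMonoidHom)).map T.subtype := by
      refine (Subgroup.closure_le _).2 ?_
      rintro y ⟨P, α, x, hP, hα, rfl⟩
      obtain ⟨e, he, hev⟩ : ∃ e : P ≃* img a P, IsIso Y e ∧
          ∀ x : P, (e x : Ω) = (a ⟨x, hP x.2⟩ : Ω) :=
        exists_iso_restrict ((mem_autGroup_iff hTS).1 ha) hP
      let f : X.autGroup P →* X.autGroup (img a P) :=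
        { toFun := fun β => ⟨MulAut.congr e β, CfsgLib.Fusion.congr_mem_of_invariant hsi hP
            (CfsgLib.FusionLayer.img_le_top a P) he β.2⟩
          map_one' := Subtype.ext (map_one _)
          map_mul' := fun a b => Subtype.ext (map_mul _ _ _) }
      refine ⟨(⟨x, hP x.2⟩ : T)⁻¹ * ⟨((α : MulAut P) x : Ω), hP ((α : MulAut P) x).2⟩, ?_, rfl⟩
      show ((a ((⟨x, hP x.2⟩ : T)⁻¹ * ⟨((α : MulAut P) x : Ω), hP ((α : MulAut P) x).2⟩) : T) : Ω) ∈
        X.hyperfocalSubgroup p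
      refine Subgroup.subset_closure ⟨img a P, f α, e x, CfsgLib.FusionLayer.img_le_top a P,
        CfsgLib.Transfer.map_pResidual_le f ⟨α, hα, rfl⟩, ?_⟩
      show _ = ((e x : Ω))⁻¹ * (MulAut.congr e (α : MulAut P) (e x) : Ω)
      rw [congr_apply, map_mul, map_inv, Subgroup.coe_mul, Subgroup.coe_inv, hev, hev]
    intro x hx
    obtain ⟨w, hw, hwx⟩ := hle hx
    obtain rfl : w = x := Subtype.ext hwx
    exact hw
  obtain ⟨hcl, hfr⟩ := closed_frattini_comp hinv hDn.1.2.2 hpres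
  refine ⟨hD.1, hY, fun P φ h => hinv.1 P (hD.2.1 P h), hcl, ?_, hfr⟩
  intro P hPU φ hφ α hα
  have hsub : D.IsSubsystemOf (transport D α) := by
    refine isSubsystemOf_of_pResidual (hTp.to_le hHT) hD.1 le_rfl fun Q hQ => ?_
    rintro β hβ
    obtain ⟨γ, hγ, rfl⟩ := pResidual_autGroup_mono hD.2.1 hQ hβ
    obtain ⟨e, he, hev⟩ : ∃ e : Q ≃* img α Q, IsIso Y e ∧
        ∀ x : Q, (e x : Ω) = (α ⟨x, hQ x.2⟩ : Ω) :=
      exists_iso_restrict ((mem_autGroup_iff hcl.1).1 hα) hQ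
    have himgU : img α Q ≤ X.hyperfocalSubgroup p := CfsgLib.FusionLayer.img_le_top α Q
    let f : X.autGroup Q →* X.autGroup (img α Q) :=
      { toFun := fun β => ⟨MulAut.congr e β, CfsgLib.Fusion.congr_mem_of_invariant hsi
          (hQ.trans hHT) (himgU.trans hHT) he β.2⟩
        map_one' := Subtype.ext (map_one _)
        map_mul' := fun a b => Subtype.ext (map_mul _ _ _) }
    have hmem : MulAut.congr e (γ : MulAut Q) ∈ D.autGroup (img α Q) := hD.2.2.2 _ himgU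
      ⟨f γ, CfsgLib.Transfer.map_pResidual_le f ⟨γ, hγ, rfl⟩, rfl⟩
    refine IsIso.mem_autGroup ⟨hQ, fun x => hQ ((γ : MulAut Q) x).2,
      (img α Q).subtype.comp (MulAut.congr e (γ : MulAut Q)).toMonoidHom,
      (mem_autGroup_iff himgU).1 hmem, fun x h => ?_⟩
    show ((MulAut.congr e (γ : MulAut Q)) ⟨_, h⟩ : Ω) = _
    rw [show (⟨(α ⟨x, hQ x.2⟩ : Ω), h⟩ : img α Q) = e x from Subtype.ext (hev x).symm, congr_apply,
      hev]
    rfl
  obtain ⟨_, hv, χ, hχ, hχv⟩ := hsub P hφ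
  exact ⟨χ, hχ, fun x hφx hαx => hχv x hαx⟩

/-- The `p`-residual exists. -/
theorem exists_pResidual [Finite S] [Fact p.Prime] (hS : IsPGroup p S) {F : FusionSystem S}
    (hF : F.IsSaturated p) : ∃ D : FusionSystem (F.hyperfocalSubgroup p), F.IsPResidual p D :=
  CfsgLib.PPowerIndex.exists_pPowerIndex (Nat.card S) hS F hF _
    (CfsgLib.Fusion.stronglyClosed_hyperfocal hS hF).1 le_rfl (Nat.le_add_left _ _)

/-- One step towards the residual limit of weakly normal subsystems. -/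
theorem weaklyNormal_step [Finite S] [Fact p.Prime] (hS : IsPGroup p S)
    {X : FusionSystem T} {Y : FusionSystem S} (hn : X.IsWeaklyNormalIn Y p)
    {DX DX' : FusionSystem (X.hyperfocalSubgroup p)} (hDX : X.IsPResidual p DX)
    (hDX' : DX.IsPPrimeResidual p DX') {DY DY' : FusionSystem (Y.hyperfocalSubgroup p)}
    (hDY : Y.IsPResidual p DY) (hDY' : DY.IsPPrimeResidual p DY') :
    DX'.IsWeaklyNormalIn DY' p := by
  have hYU := (CfsgLib.Fusion.stronglyClosed_hyperfocal hS hn.2.1).1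
  haveI := finite_of_le hYU
  have h1 := weaklyNormal_pResidual hS hn hDX
  have hle : DX.IsSubsystemOf DY := le_of_pPowerIndex hS hDX.1 h1.2.2.1
    (hyperfocal_mono hn.2.2.1) h1.2.2.2.1.1 hDY.2
  have h2 : DX.IsWeaklyNormalIn DY p := weaklyNormal_of_le hS h1 hDY.1 hDY.2.1 hle
  exact weaklyNormal_of_le (hS.to_le hYU)
    (CfsgLib.FusionLayer.isNormalIn_of_isPPrimeResidual (hS.to_le hYU) h2 hDX').1 hDY'.1
    hDY'.2.1.1 (residual_le_of_isWeaklyNormalIn (hS.to_le hYU) h2 hDX' hDY'.1 hDY'.2.1)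

theorem residualLimit_isSubsystemOf {L : FusionSystem U} {S : Subgroup Ω} {F : FusionSystem S}
    (h : L.IsResidualLimitOf F p) : L.IsSubsystemOf F := by
  induction h with
  | stable G p _ _ => exact fun P => subset_rfl
  | step E G D D' hD hD' _ ih => exact fun P φ hφ => hD.2.1 P (hD'.2.1.1 P (ih P hφ))

/-- A residual limit is one of the next step. -/
theorem residualLimit_next {L : FusionSystem U} {S : Subgroup Ω} {F : FusionSystem S}
    (h : L.IsResidualLimitOf F p) (hp : Fact p.Prime) (hfin : Finite S) (hS : IsPGroup p S)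
    (hF : F.IsSaturated p) {D D' : FusionSystem (F.hyperfocalSubgroup p)}
    (hD : F.IsPResidual p D) (hD' : D.IsPPrimeResidual p D') : L.IsResidualLimitOf D' p := by
  haveI := hfin
  have hle : F.hyperfocalSubgroup p ≤ S := (hasPPowerIndexIn_self F).2.1
  cases h with
  | stable _ _ hhyp hres =>
    have main : ∀ (W : Subgroup Ω) (X X' : FusionSystem W), W = U → X.IsSaturated p →
        X.HasPPowerIndexIn L p → X.IsPPrimeResidual p X' → L.IsResidualLimitOf X' p := by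
      intro W X X' hW hXs hXi hXp
      subst hW
      have hXL : X = L := system_eq_of_le hXi.1
        (le_of_pPowerIndex hS hF (fun _ => subset_rfl) le_rfl le_rfl hXi)
      subst hXL
      have hX' : X' = X := system_eq_of_le hXp.2.1.1 (hres.2.2 X' hXp.1 hXp.2.1)
      subst hX'
      exact IsResidualLimitOf.stable X' p hhyp hres
    exact main _ D D' hhyp hD.1 hD.2 hD'
  | step _ _ D₂ D₂' hD₂ hD₂' hL =>
    have hDD : D₂ = D := system_eq_of_le
      (le_of_pPowerIndex hS hD₂.1 hD₂.2.1 le_rfl hle hD.2)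
      (le_of_pPowerIndex hS hD.1 hD.2.1 le_rfl hle hD₂.2)
    subst hDD
    have hDD' : D₂' = D' :=
      system_eq_of_le (hD₂'.2.2 D' hD'.1 hD'.2.1) (hD'.2.2 D₂' hD₂'.1 hD₂'.2.1)
    subst hDD'
    exact hL

/-- The residual limit of a weakly normal subsystem lies in that of the system. -/
theorem limit_le {L : FusionSystem U} {S : Subgroup Ω} {Y : FusionSystem S}
    (h : L.IsResidualLimitOf Y p) (hp : Fact p.Prime) (hfin : Finite S) (hS : IsPGroup p S)
    {T V : Subgroup Ω} {X : FusionSystem T} (hn : X.IsWeaklyNormalIn Y p) {M : FusionSystem V}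
    (hM : M.IsResidualLimitOf X p) : M.IsSubsystemOf L := by
  induction h generalizing T V with
  | stable G p _ _ => exact fun P φ hφ => hn.2.2.1 P (residualLimit_isSubsystemOf hM P hφ)
  | @step S E G p D D' hD hD' hE ih =>
    haveI := hfin
    haveI := hp
    have hTS := hn.2.2.2.1.1
    haveI := finite_of_le hTS
    obtain ⟨DX, hDX⟩ := exists_pResidual (hS.to_le hTS) hn.1
    have hXU := (CfsgLib.Fusion.stronglyClosed_hyperfocal (hS.to_le hTS) hn.1).1
    haveI := finite_of_le hXU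
    have hDX' := CfsgLib.PPrimeResidual.residual_isPPrimeResidual ((hS.to_le hTS).to_le hXU) hDX.1
    have hle : G.hyperfocalSubgroup p ≤ _ := (CfsgLib.Fusion.stronglyClosed_hyperfocal hS hn.2.1).1
    exact ih hp (finite_of_le hle) (hS.to_le hle) (weaklyNormal_step hS hn hDX hDX' hD hD')
      (residualLimit_next hM hp inferInstance (hS.to_le hTS) hn.1 hDX hDX')

theorem sameMaps_of_le {L : FusionSystem U} {M : FusionSystem T} (h : L.IsSubsystemOf M)
    (h' : M.IsSubsystemOf L) : SameMaps L M :=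
  ⟨le_antisymm (le_left (h U (subtype_mem le_rfl))) (le_left (h' T (subtype_mem le_rfl))),
    fun P => Set.Subset.antisymm (h P) (h' P)⟩

/-- A weakly normal subsystem of index prime to `p` has the same residual limit. -/
theorem limit_eq_of_index [Finite S] [Fact p.Prime] (hS : IsPGroup p S) {F F₁ : FusionSystem S}
    (hn : F₁.IsWeaklyNormalIn F p) (hi : F₁.HasPrimeToPIndexIn F p)
    {L : FusionSystem U} (hL : L.IsResidualLimitOf F p) {M : FusionSystem T}
    (hM : M.IsResidualLimitOf F₁ p) : SameMaps L M := by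
  have hHS := (CfsgLib.Fusion.stronglyClosed_hyperfocal hS hn.2.1).1
  haveI := finite_of_le hHS
  obtain ⟨D, hD⟩ := exists_pResidual hS hn.2.1
  have hD' := CfsgLib.PPrimeResidual.residual_isPPrimeResidual (hS.to_le hHS) hD.1
  have hcl := CfsgLib.Fusion.stronglyClosed_hyperfocal hS hn.2.1
  have hDn := CfsgLib.PPowerIndexNormal.isNormalIn_of_pPowerIndex hS hn.2.1 hHS
    (fun s hs t ht => conj_mem_stronglyClosed hcl hs ht) hD.1 hD.2
  have h1 := (CfsgLib.FusionLayer.isNormalIn_of_isPPrimeResidual hS hDn.1 hD').1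
  have h2 := weaklyNormal_of_le hS h1 hn.1 hi.1
    (residual_le_of_isWeaklyNormalIn hS hDn.1 hD' hn.1 hi)
  exact sameMaps_of_le
    (limit_le hM inferInstance inferInstance hS h2
      (residualLimit_next hL inferInstance inferInstance hS hn.2.1 hD hD'))
    (limit_le hL inferInstance inferInstance hS hn hM)

/-- Residual limits exist. -/
theorem exists_limit (hp : Fact p.Prime) : ∀ (n : ℕ) (S : Subgroup Ω), Finite S → IsPGroup p S →
    Nat.card S ≤ n → ∀ F : FusionSystem S, F.IsSaturated p →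
    ∃ (U : Subgroup Ω) (L : FusionSystem U), L.IsResidualLimitOf F p := by
  haveI := hp
  intro n
  induction n using Nat.strong_induction_on with
  | _ n ih =>
  intro S hfin hS hn F hF
  haveI := hfin
  -- a step to a smaller subgroup
  have hsmall : ∀ G : FusionSystem S, G.IsSaturated p → G.hyperfocalSubgroup p ≠ S →
      ∃ (U : Subgroup Ω) (L : FusionSystem U), L.IsResidualLimitOf G p := by
    intro G hG hne
    have hHS := (CfsgLib.Fusion.stronglyClosed_hyperfocal hS hG).1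
    haveI := finite_of_le hHS
    obtain ⟨D, hD⟩ := exists_pResidual hS hG
    have hD' := CfsgLib.PPrimeResidual.residual_isPPrimeResidual (hS.to_le hHS) hD.1
    have hlt : Nat.card (G.hyperfocalSubgroup p) < Nat.card S :=
      Set.Finite.card_lt_card (Set.toFinite _) (show G.hyperfocalSubgroup p < S from lt_of_le_of_ne hHS hne)
    obtain ⟨U, L, hL⟩ := ih (Nat.card (G.hyperfocalSubgroup p)) (by omega) _ inferInstance
      (hS.to_le hHS) le_rfl _ hD'.1
    exact ⟨U, L, IsResidualLimitOf.step G p D _ hD hD' hL⟩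
  by_cases hhyp : F.hyperfocalSubgroup p = S
  swap
  · exact hsmall F hF hhyp
  obtain ⟨R, hR⟩ : ∃ R, R = CfsgLib.PPrimeResidual.residual F p := ⟨_, rfl⟩
  have hres : F.IsPPrimeResidual p R := hR ▸ CfsgLib.PPrimeResidual.residual_isPPrimeResidual hS hF
  have hgoal : ∃ (U : Subgroup Ω) (L : FusionSystem U), L.IsResidualLimitOf R p := by
    by_cases h : R.hyperfocalSubgroup p = S
    · refine ⟨S, R, IsResidualLimitOf.stable R p h ⟨hres.1, ⟨fun _ => subset_rfl,
        fun P _ => Subgroup.map_subtype_le _⟩, fun E hE hEi => ?_⟩⟩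
      refine hres.2.2 E hE ⟨fun P φ hφ => hres.2.1.1 P (hEi.1 P hφ), fun P hP => ?_⟩
      rw [MonoidHom.map_closure, Subgroup.closure_le]
      rintro _ ⟨a, ⟨k, hk⟩, rfl⟩
      have ha : (a : MulAut P) ∈ R.autGroup P :=
        hres.2.1.2 P hP ⟨a, Subgroup.subset_closure ⟨k, hk⟩, rfl⟩
      exact hEi.2 P hP ⟨⟨a, ha⟩, Subgroup.subset_closure
        ⟨k, by rw [← hk, ← Subgroup.orderOf_coe, ← Subgroup.orderOf_coe]⟩, rfl⟩
    · exact hsmall R hres.1 h
  obtain ⟨U, L, hL⟩ := hgoal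
  have main : ∀ (H : Subgroup Ω) (D D' : FusionSystem H), H = F.hyperfocalSubgroup p →
      D.IsSaturated p → D.HasPPowerIndexIn F p → D.IsPPrimeResidual p D' →
      L.IsResidualLimitOf D' p → L.IsResidualLimitOf F p := by
    intro H D D' hH hDs hDi hDp hl
    subst hH
    exact IsResidualLimitOf.step F p D D' ⟨hDs, hDi⟩ hDp hl
  exact ⟨U, L, main S F R hhyp.symm hF (hasPPowerIndexIn_self F) hres hL⟩

end CfsgLib.FusionEnvelope
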