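import Cfsg.Agent.FusionEnvelope.Steps
import Cfsg.Agent.FusionLayer.Series
import Cfsg.Agent.FusionLayer.Residual.Transport

/-!
# The envelope of a normal subsystem with `p`-solvable automizer quotient

`exists_envelope`: if `E` is normal in `F` over `T` and `Aut_F(T)/Aut_E(T)` is `p`-solvable, the
largest saturated subsystem of `F` over `T C_S(T)` inducing `Aut_E(T)` on `T` is normal in `F`,
contains `E` as a normal subsystem and has the residual limit of `F`.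
-/

set_option autoImplicit false
set_option linter.unusedSectionVars false
set_option linter.style.haveILetI false

universe u

namespace CfsgLib.FusionEnvelope

open Cfsg Cfsg.FusionSystem CfsgLib.Fusion CfsgLib.FusionAgemo CfsgLib.FusionClosed
  CfsgLib.FusionPIndex
open CfsgLib.PPowerIndexNormal (img transport)

variable {Ω : Type u} [Group Ω] {S T U : Subgroup Ω} {p : ℕ}

theorem mem_transport_subsystem {F : FusionSystem S} {D : FusionSystem U} (hDF : D.IsSubsystemOf F)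
    (hU : U ≤ S) {α : MulAut U} (hα : α ∈ F.autGroup U) : (transport D α).IsSubsystemOf F := by
  rintro P φ ⟨hP, hv, χ, hχ, hχv⟩
  have hαF := (mem_autGroup_iff hU).1 hα
  obtain ⟨e, he, hev⟩ : ∃ e : P ≃* img α P, IsIso F e ∧
      ∀ x : P, (e x : Ω) = (α ⟨x, hP x.2⟩ : Ω) := exists_iso_restrict hαF hP
  have h1 : χ.comp e.toMonoidHom ∈ F.Hom P :=
    mem_of_comp he (hDF _ hχ) (fun x => (e x).2) fun _ => rfl
  have hinv := (mem_autGroup_iff hU).1 (inv_mem hα : α⁻¹ ∈ F.autGroup U)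
  refine mem_of_comp h1 hinv (fun x => apply_mem hχ _) fun x => ?_
  show φ x = ((α⁻¹ ⟨χ (e x), _⟩ : U) : Ω)
  have h2 : χ (e x) = (α ⟨φ x, hv x⟩ : Ω) := by
    have h3 : (e x) = ⟨(α ⟨x, hP x.2⟩ : Ω), ⟨⟨x, hP x.2⟩, x.2, rfl⟩⟩ := Subtype.ext (hev x)
    rw [h3]
    exact hχv x _
  rw [show (⟨χ (e x), apply_mem hχ _⟩ : U) = α ⟨φ x, hv x⟩ from Subtype.ext h2,
    MulAut.inv_apply_self]

/-- Transport preserves saturation. -/
theorem transport_saturated [Finite U] [Fact p.Prime] (hUp : IsPGroup p U) {D : FusionSystem U}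
    (hD : D.IsSaturated p) (α : MulAut U) : (transport D α).IsSaturated p := by
  have hmem : ∀ β : MulAut U, β ∈ (transport D α).autGroup U → α * β * α⁻¹ ∈ D.autGroup U := by
    intro β hβ
    obtain ⟨hP, hv, χ, hχ, hχv⟩ := (mem_autGroup_iff le_rfl).1 hβ
    have hle : U ≤ img α U := fun y hy =>
      ⟨α⁻¹ ⟨y, hy⟩, (α⁻¹ ⟨y, hy⟩).2, congrArg Subtype.val (MulAut.apply_inv_self U α ⟨y, hy⟩)⟩
    refine (mem_autGroup_iff le_rfl).2 (mem_of_agree hχ hle fun y => ?_)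
    obtain ⟨x, rfl⟩ := α.surjective y
    show ((α * β * α⁻¹) (α x) : Ω) = χ ⟨(α x : Ω), hle (α x).2⟩
    rw [MulAut.mul_apply, MulAut.mul_apply, MulAut.inv_apply_self]
    exact (hχv x _).symm
  have hInn : ∀ c ∈ autInducedBy U U, α * c * α⁻¹ ∈ autInducedBy U U := by
    intro c hc
    obtain ⟨g, hg, -, hgv⟩ := mem_autInducedBy_iff.1 hc
    refine mem_autInducedBy_iff.2 ⟨α ⟨g, hg⟩, (α ⟨g, hg⟩).2,
      Subgroup.le_normalizer (α ⟨g, hg⟩).2, fun y => ?_⟩
    obtain ⟨x, rfl⟩ := α.surjective y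
    rw [MulAut.mul_apply, MulAut.mul_apply, MulAut.inv_apply_self,
      show c x = ⟨g, hg⟩ * x * (⟨g, hg⟩ : U)⁻¹ from Subtype.ext (hgv x), map_mul, map_mul, map_inv]
    rfl
  refine isSaturated_of_receptive hUp ⟨le_rfl, ?_⟩ fun Q hQ => ⟨hQ.1, fun R θ hθ hθr => ?_⟩
  · have hI : autInducedBy U U ≤ D.autGroup U := autInducedBy_le_autGroup le_rfl
    have hle : autInducedBy U U ≤ (transport D α).autGroup U := autInducedBy_le_autGroup le_rfl
    refine isSylowIn_of_card_max hle (isPGroup_autInducedBy hUp U) fun X hX hXp => ?_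
    have h := IsSylowIn.card_le (automized_receptive hUp hD (isFullyNormalized_self (F := D))).1.2
      hI (X := X.map (MulAut.conj α).toMonoidHom) (by
        rintro _ ⟨β, hβ, rfl⟩
        exact hmem β (hX hβ)) (hXp.map _)
    rwa [Subgroup.card_map_of_injective (MulAut.conj α).injective] at h
  obtain ⟨hR, hv, χ, hχ, hχv⟩ := id hθ
  have hχr : χ.range = img α Q := by
    ext y
    constructor
    · rintro ⟨⟨_, x, hx, rfl⟩, rfl⟩
      refine ⟨⟨θ ⟨x, hx⟩, hv _⟩, ?_, (hχv ⟨x, hx⟩ _).symm⟩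
      exact hθr ▸ (⟨⟨x, hx⟩, rfl⟩ : θ ⟨x, hx⟩ ∈ θ.range)
    · rintro ⟨z, hz, rfl⟩
      obtain ⟨x, hx⟩ : (z : Ω) ∈ θ.range := hθr.ge hz
      refine ⟨⟨_, ⟨x, hR x.2⟩, x.2, rfl⟩, (hχv x _).trans ?_⟩
      exact congrArg (fun w : U => (α w : Ω)) (Subtype.ext hx)
  obtain ⟨ω, hω, hωv⟩ := (automized_receptive hUp hD
    (CfsgLib.FusionLayer.isFullyNormalized_img α hQ)).2.2 _ χ hχ hχr
  have hN : extender U R θ ≤ U := (extender_le_normalizerIn θ).trans (normalizerIn_le U R)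
  have hle : img α (extender U R θ) ≤ extender U (img α R) χ := by
    rintro _ ⟨g, hg, rfl⟩
    obtain ⟨-, hgN, h, hh, hgv⟩ := mem_extender_iff.1 hg
    have := finite_of_le (CfsgLib.FusionLayer.img_le_top α R)
    refine mem_extender_iff.2 ⟨(α g).2, ?_, (α ⟨h, hh⟩ : Ω), Subtype.mem _, ?_⟩
    · refine CfsgLib.SatCriterion.mem_normalizer_of_finite ?_
      rintro _ ⟨x, hx, rfl⟩
      refine ⟨g * x * g⁻¹, (Subgroup.mem_normalizer_iff.1 hgN _).1 hx, ?_⟩
      simp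
    · rintro ⟨_, x, hx, rfl⟩ hgx
      have hgx' : (g : Ω) * x * (g : Ω)⁻¹ ∈ R := (Subgroup.mem_normalizer_iff.1 hgN _).1 hx
      have hm : (α (g * x * g⁻¹) : Ω) ∈ img α R := ⟨g * x * g⁻¹, hgx', rfl⟩
      have e1 : χ ⟨_, hgx⟩ = χ ⟨_, hm⟩ := congrArg χ (Subtype.ext (by simp))
      have e2 : χ ⟨(α (g * x * g⁻¹) : Ω), hm⟩ = (α ⟨θ ⟨_, hgx'⟩, hv _⟩ : Ω) :=
        hχv ⟨_, hgx'⟩ hm
      have hm' : (α x : Ω) ∈ img α R := ⟨x, hx, rfl⟩
      have e3 : χ ⟨(α x : Ω), hm'⟩ = (α ⟨θ ⟨x, hx⟩, hv _⟩ : Ω) := hχv ⟨x, hx⟩ hm'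
      show χ ⟨_, hgx⟩ = (α ⟨h, hh⟩ : Ω) * χ ⟨(α x : Ω), hm'⟩ * (α ⟨h, hh⟩ : Ω)⁻¹
      rw [e1, e2, e3,
        show (⟨θ ⟨_, hgx'⟩, hv _⟩ : U) = ⟨h, hh⟩ * ⟨θ ⟨x, hx⟩, hv _⟩ * (⟨h, hh⟩ : U)⁻¹ from
          Subtype.ext (hgv ⟨x, hx⟩ hgx'), map_mul, map_mul, map_inv]
      rfl
  refine ⟨_, CfsgLib.FusionLayer.pullHom_mem α hN (restrict_mem hω hle), fun x hx hxN => ?_⟩
  rw [CfsgLib.FusionLayer.pullHom_apply]
  have hm : (α ⟨x, hR hx⟩ : Ω) ∈ img α R := ⟨⟨x, hR hx⟩, hx, rfl⟩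
  have hωx := hωv _ hm (hle ⟨⟨x, hR hx⟩, hxN, rfl⟩)
  have e2 : (⟨ω ⟨(α ⟨x, hR hx⟩ : Ω), hle ⟨⟨x, hR hx⟩, hxN, rfl⟩⟩, apply_mem hω _⟩ : U) =
      α ⟨θ ⟨x, hx⟩, hv _⟩ := Subtype.ext (hωx.trans (hχv ⟨x, hx⟩ hm))
  show ((α⁻¹ ⟨ω ⟨(α ⟨x, hR hx⟩ : Ω), hle ⟨⟨x, hR hx⟩, hxN, rfl⟩⟩, apply_mem hω _⟩ : U) : Ω) = _
  rw [e2, MulAut.inv_apply_self]

/-- The properties of the envelope. -/
structure IsEnvelope (F : FusionSystem S) (E : FusionSystem T) (p : ℕ) {R : Subgroup Ω}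
    (F₀ : FusionSystem R) : Prop where
  normal : F₀.IsNormalIn F p
  sub_normal : E.IsNormalIn F₀ p
  autGroup_eq : F₀.autGroup T = E.autGroup T
  max : ∀ X : FusionSystem R, X.IsSaturated p → X.IsSubsystemOf F →
    X.autGroup T ≤ E.autGroup T → X.IsSubsystemOf F₀
  limit : ∀ {U V : Subgroup Ω} (L : FusionSystem U) (M : FusionSystem V),
    L.IsResidualLimitOf F p → M.IsResidualLimitOf F₀ p → SameMaps L M

theorem isNormalIn_self [Finite S] [Fact p.Prime] (hS : IsPGroup p S) {F : FusionSystem S}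
    (hF : F.IsSaturated p) : F.IsNormalIn F p :=
  CfsgLib.PPowerIndexNormal.isNormalIn_of_pPowerIndex hS hF le_rfl
    (fun s hs t ht => S.mul_mem (S.mul_mem hs ht) (S.inv_mem hs)) hF (hasPPowerIndexIn_self F)

/-- The envelope exists. -/
theorem exists_envelope (hp : Fact p.Prime) (n : ℕ) : ∀ (S T : Subgroup Ω), Finite S →
    IsPGroup p S → ∀ (F : FusionSystem S), F.IsSaturated p → ∀ (E : FusionSystem T),
    E.IsNormalIn F p → Nat.card (F.autGroup T) ≤ n →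
    ∀ [hn : ((E.autGroup T).subgroupOf (F.autGroup T)).Normal],
    IsPSolvable p (↥(F.autGroup T) ⧸ (E.autGroup T).subgroupOf (F.autGroup T)) →
    ∀ R : Subgroup Ω, R = T ⊔ centralizerIn S T →
    ∃ F₀ : FusionSystem R, IsEnvelope F E p F₀ := by
  haveI := hp
  induction n using Nat.strong_induction_on with
  | _ n ih =>
  intro S T hfin hS F hF E hE hn hNn hsolv R hR
  haveI := hfin
  obtain ⟨⟨hEs, -, hinv⟩, hext⟩ := id hE
  have hT := hinv.2.1
  have hTS := hT.1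
  haveI := finite_of_le hTS
  have hEF : E.autGroup T ≤ F.autGroup T := fun a ha =>
    (mem_autGroup_iff hTS).2 (hinv.1 T ((mem_autGroup_iff le_rfl).1 ha))
  have hRS : T ⊔ centralizerIn S T ≤ S := sup_le hTS (centralizerIn_le S T)
  rcases hEF.eq_or_lt with heq | hlt
  · -- the automizers are equal
    have hSR : T ⊔ centralizerIn S T = S := by
      refine le_antisymm hRS fun s hs => ?_
      have hs' := mem_normalizer_stronglyClosed hT hs
      have hc : T.normalizerMonoidHom ⟨s, hs'⟩ ∈ E.autGroup T := heq ▸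
        autInducedBy_le_autGroup hTS (mem_autInducedBy_iff.2 ⟨s, hs, hs', fun _ => rfl⟩)
      have hEa := (automized_receptive (hS.to_le hTS) hEs (isFullyNormalized_self (F := E))).1
      have hle : autInducedBy T T ≤ autInducedBy S T ⊓ E.autGroup T :=
        le_inf (autInducedBy_mono hTS T) (autInducedBy_le_autGroup le_rfl)
      haveI : Finite ↥(autInducedBy S T ⊓ E.autGroup T) := inferInstance
      have h := Subgroup.eq_of_le_of_card_ge hle
        (IsSylowIn.card_le hEa.2 (autInducedBy_le_autGroup le_rfl) inf_le_right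
          ((isPGroup_autInducedBy hS T).to_le inf_le_left))
      obtain ⟨t, ht, -, htv⟩ := mem_autInducedBy_iff.1
        (h.ge ⟨mem_autInducedBy_iff.2 ⟨s, hs, hs', fun _ => rfl⟩, hc⟩)
      rw [← mul_inv_cancel_left t s]
      refine Subgroup.mul_mem_sup ht (mem_centralizerIn.2
        ⟨S.mul_mem (S.inv_mem (hTS ht)) hs, fun y hy => ?_⟩)
      have h1 : s * y * s⁻¹ = t * y * t⁻¹ := htv ⟨y, hy⟩
      calc y * (t⁻¹ * s) = t⁻¹ * (t * y * t⁻¹) * s := by group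
        _ = t⁻¹ * (s * y * s⁻¹) * s := by rw [h1]
        _ = t⁻¹ * s * y := by group
    obtain rfl : R = S := hR.trans hSR
    exact ⟨F, isNormalIn_self hS hF, hE, heq.symm, fun X _ hXF _ => hXF,
      fun L M hL hM => residualLimit_unique hL hM inferInstance inferInstance hS hF⟩
  -- a step
  haveI : Nontrivial (↥(F.autGroup T) ⧸ (E.autGroup T).subgroupOf (F.autGroup T)) :=
    QuotientGroup.nontrivial_iff.2 fun h => hlt.ne (le_antisymm hEF (Subgroup.subgroupOf_eq_top.1 h))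
  obtain ⟨K₀, hK₀n, hK₀ne, hK₀c⟩ := exists_top_step hsolv
  let π := QuotientGroup.mk' ((E.autGroup T).subgroupOf (F.autGroup T))
  let K : Subgroup (MulAut T) := (K₀.comap π).map (F.autGroup T).subtype
  have hKmem : ∀ (a : MulAut T) (ha : a ∈ F.autGroup T), a ∈ K ↔ π ⟨a, ha⟩ ∈ K₀ := fun a ha =>
    ⟨fun ⟨b, hb, hba⟩ => by
      rw [show (⟨a, ha⟩ : F.autGroup T) = b from Subtype.ext hba.symm]; exact hb,
      fun h => ⟨⟨a, ha⟩, h, rfl⟩⟩
  have hKG : K ≤ F.autGroup T := Subgroup.map_subtype_le _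
  have hK : StepGroup F E K := by
    refine ⟨hKG, fun a ha k hk => ?_, fun a ha => (hKmem a (hEF ha)).2 ?_⟩
    · refine (hKmem _ (mul_mem (mul_mem ha (hKG hk)) (inv_mem ha))).2 ?_
      have h1 : π (⟨a, ha⟩ * ⟨k, hKG hk⟩ * (⟨a, ha⟩ : F.autGroup T)⁻¹) ∈ K₀ := by
        rw [map_mul, map_mul, map_inv]
        exact hK₀n.conj_mem _ ((hKmem k (hKG hk)).1 hk) _
      exact h1
    · rw [show π ⟨a, hEF ha⟩ = 1 from (QuotientGroup.eq_one_iff _).2 ha]
      exact K₀.one_mem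
  have hKne : K ≠ F.autGroup T := fun h => hK₀ne (top_le_iff.1 fun x _ => by
    obtain ⟨⟨a, ha⟩, rfl⟩ := QuotientGroup.mk'_surjective _ x
    exact (hKmem a ha).1 (h.ge ha))
  obtain ⟨S₁, F₁, hstep⟩ : ∃ (S₁ : Subgroup Ω) (F₁ : FusionSystem S₁), StepSystem F E p K F₁ := by
    rcases hK₀c with hc | ⟨hcomm, hpow⟩
    · refine ⟨S, exists_pPrime_step hS hF hE hK hKne ?_⟩
      show (K.subgroupOf (F.autGroup T)).index.Coprime p
      rw [show K.subgroupOf (F.autGroup T) = K₀.comap π from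
        Subgroup.comap_map_eq_self_of_injective (F.autGroup T).subtype_injective _,
        Subgroup.index_comap_of_surjective _ (QuotientGroup.mk'_surjective _)]
      exact hc
    · refine exists_pPower_step hS hF hE hK (fun a ha b hb => ?_) fun a ha => ?_
      · refine (hKmem _ (mul_mem (mul_mem (mul_mem ha hb) (inv_mem ha)) (inv_mem hb))).2 ?_
        have h1 := hcomm (π ⟨a, ha⟩) (π ⟨b, hb⟩)
        rw [← map_inv, ← map_inv, ← map_mul, ← map_mul, ← map_mul] at h1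
        exact h1
      · obtain ⟨j, hj⟩ := hpow (π ⟨a, ha⟩)
        refine ⟨j, (hKmem _ (pow_mem ha _)).2 ?_⟩
        rw [← map_pow] at hj
        exact hj
  obtain ⟨hnor, hRS₁, hEF₁, hautK, hmax, hextK, hlim⟩ := hstep
  obtain ⟨⟨hF₁, -, hinv₁⟩, -⟩ := id hnor
  have hS₁S : S₁ ≤ S := hinv₁.2.1.1
  haveI := finite_of_le hS₁S
  have hS₁p := hS.to_le hS₁S
  have hCeq : centralizerIn S₁ T = centralizerIn S T := le_antisymm
    (fun c hc => ⟨hS₁S hc.1, hc.2⟩) fun c hc => ⟨hRS₁ (Subgroup.mem_sup_right hc), hc.2⟩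
  have hinvE₁ := invariant_of_le hS hinv hF₁ hinv₁.1 hEF₁
  have hE₁ : E.IsNormalIn F₁ p := by
    refine ⟨⟨hEs, hF₁, hinvE₁⟩, fun α hα => ?_⟩
    have key : ∀ C : Subgroup Ω, C = centralizerIn S T → ∃ β ∈ F₁.autGroup (T ⊔ C),
        (∀ x : T, ((β (Subgroup.inclusion le_sup_left x) : ↥(T ⊔ C)) : Ω) = ((α x : T) : Ω)) ∧
        ∀ c : ↥(T ⊔ C), (c : Ω) ∈ C →
          (c : Ω)⁻¹ * ((β c : ↥(T ⊔ C)) : Ω) ∈ T ⊓ Subgroup.centralizer (T : Set Ω) := by
      intro C hC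
      subst hC
      exact hextK α hα
    exact key _ hCeq
  have hT₁S : T ≤ S₁ := le_sup_left.trans hRS₁
  have hG₁ : F₁.autGroup T ≤ F.autGroup T := hautK.trans hKG
  have hcard : Nat.card (F₁.autGroup T) < Nat.card (F.autGroup T) :=
    Set.Finite.card_lt_card (Set.toFinite _)
      (show F₁.autGroup T < F.autGroup T from lt_of_le_of_ne hG₁ fun h =>
        hKne (le_antisymm hKG (h ▸ hautK)))
  haveI hN₁ : ((E.autGroup T).subgroupOf (F₁.autGroup T)).Normal :=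
    ⟨fun e he a => CfsgLib.Fusion.congr_mem_of_invariant (strongInvariant_of_invariant hinvE₁)
      le_rfl le_rfl ((mem_autGroup_iff hT₁S).1 a.2) he⟩
  have hsolv₁ : IsPSolvable p
      (↥(F₁.autGroup T) ⧸ (E.autGroup T).subgroupOf (F₁.autGroup T)) := by
    refine CfsgLib.FusionLayer.isPSolvable_of_injective hsolv
      (f := QuotientGroup.map _ ((E.autGroup T).subgroupOf (F.autGroup T))
        (Subgroup.inclusion hG₁) fun a ha => ha) ?_
    rw [injective_iff_map_eq_one]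
    intro x hx
    obtain ⟨a, rfl⟩ := QuotientGroup.mk'_surjective _ x
    have hx' : QuotientGroup.mk' ((E.autGroup T).subgroupOf (F.autGroup T))
        (Subgroup.inclusion hG₁ a) = 1 := hx
    exact (QuotientGroup.eq_one_iff a).2 ((QuotientGroup.eq_one_iff
      (N := (E.autGroup T).subgroupOf (F.autGroup T)) _).1 hx')
  obtain ⟨F₀, h₀⟩ := ih _ (lt_of_lt_of_le hcard hn) S₁ T inferInstance hS₁p F₁ hF₁ E hE₁ le_rfl
    hsolv₁ R (by rw [hR, hCeq])
  obtain ⟨⟨⟨hF₀, -, hinv₀⟩, -⟩, hsubn, haut, hmax₀, hlim₀⟩ := h₀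
  have hRS' : R ≤ S := hR ▸ hRS
  haveI := finite_of_le hRS'
  have hF₀F : F₀.IsSubsystemOf F := fun P φ h => hinv₁.1 P (hinv₀.1 P h)
  -- maximality
  have hmax' : ∀ X : FusionSystem R, X.IsSaturated p → X.IsSubsystemOf F →
      X.autGroup T ≤ E.autGroup T → X.IsSubsystemOf F₀ := by
    intro X hX hXF hXT
    refine hmax₀ X hX ?_ hXT
    subst hR
    exact hmax X hX hXF (hXT.trans hK.autGroup_le)
  -- `Aut_F(S₁)` preserves `R`
  have hpres : ∀ a ∈ F.autGroup S₁, ∀ x : S₁, (x : Ω) ∈ R → ((a x : S₁) : Ω) ∈ R := by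
    intro a ha
    have haF := (mem_autGroup_iff hS₁S).1 ha
    have hle : R ≤ (R.comap (S₁.subtype.comp a.toMonoidHom)).map S₁.subtype := by
      refine hR.le.trans (sup_le (fun t ht => ?_) fun c hc => ?_)
      · refine ⟨⟨t, hT₁S ht⟩, hR.ge (Subgroup.mem_sup_left ?_), rfl⟩
        exact apply_mem_stronglyClosed hT haF (x := ⟨t, hT₁S ht⟩) ht
      · have hcS₁ := hRS₁ (Subgroup.mem_sup_right hc)
        refine ⟨⟨c, hcS₁⟩, hR.ge (Subgroup.mem_sup_right ?_), rfl⟩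
        refine mem_centralizerIn.2 ⟨hS₁S (a ⟨c, hcS₁⟩).2, fun y hy => ?_⟩
        obtain ⟨b, hb, hbv⟩ := exists_restrict_aut hT hT₁S hS₁S ha
        obtain ⟨x, hx⟩ := b.surjective ⟨y, hy⟩
        have h1 : y = (a ⟨x, hT₁S x.2⟩ : Ω) := by rw [← hbv, hx]
        rw [h1]
        show (a ⟨x, hT₁S x.2⟩ : Ω) * (a ⟨c, hcS₁⟩ : Ω) = (a ⟨c, hcS₁⟩ : Ω) * (a ⟨x, hT₁S x.2⟩ : Ω)
        rw [← Subgroup.coe_mul, ← Subgroup.coe_mul, ← map_mul, ← map_mul]
        exact congrArg (fun w => (a w : Ω)) (Subtype.ext ((mem_centralizerIn.1 hc).2 (x : Ω) x.2))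
    intro x hx
    obtain ⟨w, hw, hwx⟩ := hle hx
    obtain rfl : w = x := Subtype.ext hwx
    exact hw
  obtain ⟨hcl, hfr⟩ := closed_frattini_comp hinv₁ hinv₀ hpres
  have hTR : T ≤ R := hR ▸ le_sup_left
  have hinvA : AutInvariant F₀ F := by
    intro P hP φ hφ α hα
    have hX := hmax' (transport F₀ α⁻¹) (transport_saturated (hS.to_le hRS') hF₀ α⁻¹)
      (mem_transport_subsystem hF₀F hRS' (inv_mem hα)) fun β hβ => by
        obtain ⟨hP', hv', χ, hχ, hχv⟩ := (mem_autGroup_iff hTR).1 hβ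
        obtain ⟨b, hb, hbv⟩ := exists_restrict_aut hT hTR hRS' (inv_mem hα)
        have hle : T ≤ img α⁻¹ T := by
          intro y hy
          refine ⟨⟨(b⁻¹ ⟨y, hy⟩ : T), hTR (b⁻¹ ⟨y, hy⟩).2⟩, (b⁻¹ ⟨y, hy⟩).2, ?_⟩
          refine (hbv _).symm.trans ?_
          rw [MulAut.apply_inv_self]
        have hconj : b * β * b⁻¹ ∈ F₀.autGroup T := by
          refine (mem_autGroup_iff hTR).2 (mem_of_agree hχ hle fun y => ?_)
          obtain ⟨x, rfl⟩ := b.surjective y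
          show ((b * β * b⁻¹) (b x) : Ω) = χ ⟨(b x : Ω), _⟩
          rw [MulAut.mul_apply, MulAut.mul_apply, MulAut.inv_apply_self, hbv]
          have h1 := hχv x ((hbv x) ▸ hle (b x).2)
          refine Eq.trans ?_ ((congrArg χ (Subtype.ext (hbv x))).trans h1).symm
          rfl
        rw [haut] at hconj
        have h2 := hNn.conj_mem ⟨_, hEF hconj⟩ hconj (⟨b, hb⟩ : F.autGroup T)⁻¹
        have h3 : b⁻¹ * (b * β * b⁻¹) * b⁻¹⁻¹ ∈ E.autGroup T := h2
        simpa [mul_assoc] using h3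
    refine ⟨CfsgLib.FusionLayer.pullHom α⁻¹ (CfsgLib.FusionLayer.img_le_top α P)
      (restrictHom φ (CfsgLib.FusionLayer.img_img_inv α hP).le) (fun y => apply_mem hφ _),
      hX _ (CfsgLib.FusionLayer.pullHom_mem α⁻¹ (CfsgLib.FusionLayer.img_le_top α P)
        (restrict_mem hφ (CfsgLib.FusionLayer.img_img_inv α hP).le)), fun x hφx hαx => ?_⟩
    refine (CfsgLib.FusionLayer.pullHom_apply _ _ _ _ _).trans ?_
    simp only [inv_inv]
    refine congrArg (fun w : R => ((α w : R) : Ω)) (Subtype.ext ?_)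
    refine congrArg φ (Subtype.ext ?_)
    show ((α⁻¹ (α ⟨x, hP x.2⟩) : R) : Ω) = x
    rw [MulAut.inv_apply_self]
  -- the envelope
  refine ⟨F₀, ⟨⟨hF₀, hF, hF₀F, hcl, hinvA, hfr⟩, fun α hα => ?_⟩, hsubn, haut, hmax', ?_⟩
  · -- the extension condition
    have hCR : centralizerIn S R ≤ R := fun c hc =>
      hR.ge (Subgroup.mem_sup_right (centralizerIn_anti hTR hc))
    have hRR : R ⊔ centralizerIn S R = R := sup_eq_left.2 hCR
    let e := MulEquiv.subgroupCongr hRR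
    have hαF : IsIso F α := hF₀F R ((mem_autGroup_iff le_rfl).1 hα)
    have he : IsIso F e := mem_congr (subtype_mem (hRR.le.trans hRS')) fun _ => rfl
    refine ⟨(e.trans α).trans e.symm, ((he.trans hαF).trans he.symm).mem_autGroup, fun x => rfl,
      fun c hc => ?_⟩
    show (c : Ω)⁻¹ * (α (e c) : Ω) ∈ _
    refine ⟨R.mul_mem (R.inv_mem (hCR hc)) (Subtype.mem _),
      (Subgroup.centralizer (R : Set Ω)).mul_mem
        ((Subgroup.centralizer (R : Set Ω)).inv_mem hc.2) ?_⟩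
    apply Subgroup.mem_centralizer_iff.2
    intro y hy
    obtain ⟨z, hz⟩ := α.surjective ⟨y, hy⟩
    have h1 : z * e c = e c * z := Subtype.ext (Subgroup.mem_centralizer_iff.1 hc.2 z z.2)
    have h2 := congrArg (fun w => ((α w : R) : Ω)) h1
    simp only [map_mul, Subgroup.coe_mul, hz] at h2
    exact h2
  · intro U V L M hL hM
    obtain ⟨W, L₁, hL₁⟩ := exists_limit hp _ S₁ inferInstance hS₁p le_rfl F₁ hF₁
    obtain ⟨e1, h1⟩ := hlim L L₁ hL hL₁
    obtain ⟨e2, h2⟩ := hlim₀ L₁ M hL₁ hM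
    exact ⟨e1.trans e2, fun P => (h1 P).trans (h2 P)⟩

end CfsgLib.FusionEnvelope
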