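import Cfsg.Agent.FusionNormal.GoodLift
import Cfsg.Agent.FusionLayer.Util
import Cfsg.Agent.Fusion.NormalizerSaturated
import Cfsg.Agent.FusionPIndex.Basic
import Cfsg.Agent.Fusion.KernelSubsystem

/-!
# Maps preserving a homomorphism of `S` to an abelian group

`q` is a function on the ambient group which is multiplicative on `S`; `Pres q φ` says that `φ`
preserves it.
-/

set_option autoImplicit false
set_option linter.unusedSectionVars false

namespace CfsgLib.FusionEnvelope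

open Cfsg Cfsg.FusionSystem CfsgLib.Fusion

variable {Ω : Type*} [Group Ω] {S P Q W : Subgroup Ω} {F : FusionSystem S} {p : ℕ}
variable {A : Type*} [CommGroup A] {q : Ω → A}

/-- `q` is multiplicative on `S`. -/
def MulOn (S : Subgroup Ω) (q : Ω → A) : Prop := ∀ a ∈ S, ∀ b ∈ S, q (a * b) = q a * q b

theorem MulOn.one (h : MulOn S q) : q 1 = 1 := by
  have h1 := h 1 S.one_mem 1 S.one_mem
  rw [mul_one] at h1
  exact left_eq_mul.1 h1

theorem MulOn.inv (h : MulOn S q) {a : Ω} (ha : a ∈ S) : q a⁻¹ = (q a)⁻¹ := by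
  refine (inv_eq_of_mul_eq_one_right ?_).symm
  rw [← h a ha a⁻¹ (S.inv_mem ha), mul_inv_cancel, h.one]

theorem MulOn.conj (h : MulOn S q) {g x : Ω} (hg : g ∈ S) (hx : x ∈ S) :
    q (g * x * g⁻¹) = q x := by
  rw [h _ (S.mul_mem hg hx) _ (S.inv_mem hg), h g hg x hx, h.inv hg, mul_comm (q g),
    mul_inv_cancel_right]

theorem MulOn.pow (h : MulOn S q) {a : Ω} (ha : a ∈ S) (n : ℕ) : q (a ^ n) = q a ^ n := by
  induction n with
  | zero => rw [pow_zero, pow_zero, h.one]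
  | succ n ih => rw [pow_succ, pow_succ, h _ (S.pow_mem ha n) a ha, ih]

theorem MulOn.eq_one_of_pow [Fact p.Prime] (hS : IsPGroup p S) (h : MulOn S q) {x : Ω}
    (hx : x ∈ S) {n : ℕ} (hn : n.Coprime p) (he : q x ^ n = 1) : q x = 1 := by
  obtain ⟨k, hk⟩ := hS ⟨x, hx⟩
  have h1 : q x ^ (p ^ k) = 1 := by
    rw [← h.pow hx, show x ^ p ^ k = 1 from congrArg Subtype.val hk, h.one]
  have h2 := Nat.eq_one_of_dvd_coprimes (Nat.Coprime.pow_right k hn)
    (orderOf_dvd_of_pow_eq_one he) (orderOf_dvd_of_pow_eq_one h1)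
  exact orderOf_eq_one_iff.1 h2

/-- `φ` preserves `q`. -/
def Pres (q : Ω → A) (φ : P →* Ω) : Prop := ∀ x : P, q (φ x) = q x

theorem pres_restrict {φ : P →* Ω} (h : Pres q φ) (hWP : W ≤ P) {χ : W →* Ω}
    (e : ∀ x : W, χ x = φ ⟨x, hWP x.2⟩) : Pres q χ :=
  fun x => (congrArg q (e x)).trans (h ⟨x, hWP x.2⟩)

theorem mem_kNormalizer_of_le {K : Subgroup (MulAut Q)} (hK : autInducedBy S Q ≤ K) :
    kNormalizer S Q K = normalizerIn S Q := by
  refine le_antisymm (kNormalizer_le_normalizerIn K) fun g hg => ?_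
  exact mem_kNormalizer.2 ⟨hg.1, Q.normalizerMonoidHom ⟨g, hg.2⟩,
    hK (mem_autInducedBy_iff.2 ⟨g, hg.1, hg.2, fun _ => rfl⟩), fun _ => rfl⟩

/-- The agreement of automorphisms with their restrictions is multiplicative. -/
theorem agree_mul {hPW : P ≤ W} {a b : MulAut P} {a' b' : MulAut W}
    (ha : ∀ x : P, (a' (Subgroup.inclusion hPW x) : Ω) = a x)
    (hb : ∀ x : P, (b' (Subgroup.inclusion hPW x) : Ω) = b x) (x : P) :
    ((a' * b') (Subgroup.inclusion hPW x) : Ω) = (a * b) x := by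
  rw [MulAut.mul_apply, MulAut.mul_apply,
    show b' (Subgroup.inclusion hPW x) = Subgroup.inclusion hPW (b x) from Subtype.ext (hb x)]
  exact ha (b x)

theorem agree_inv {hPW : P ≤ W} {a : MulAut P} {a' : MulAut W}
    (ha : ∀ x : P, (a' (Subgroup.inclusion hPW x) : Ω) = a x) (x : P) :
    ((a'⁻¹) (Subgroup.inclusion hPW x) : Ω) = (a⁻¹) x := by
  have e : a' (Subgroup.inclusion hPW (a⁻¹ x)) = Subgroup.inclusion hPW x := by
    refine Subtype.ext ((ha _).trans ?_)
    rw [MulAut.apply_inv_self]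
    rfl
  rw [← e, MulAut.inv_apply_self]
  rfl

/-- A map preserving `Q` has values normalizing `Q`. -/
theorem apply_mem_normalizerIn [Finite S] {φ : W →* Ω} (hφ : φ ∈ F.Hom W) (hQW : Q ≤ W)
    (hW : W ≤ Subgroup.normalizer (Q : Set Ω)) (himg : imgHom φ Q = Q) (x : W) :
    φ x ∈ normalizerIn S Q := by
  haveI := finite_of_le (hQW.trans (le_left hφ))
  refine ⟨apply_mem hφ x, CfsgLib.SatCriterion.mem_normalizer_of_finite fun y hy => ?_⟩
  rw [← himg] at hy
  obtain ⟨z, hz, rfl⟩ := hy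
  have h1 := apply_mem_imgHom φ (R := Q) (x := x * z * x⁻¹)
    ((Subgroup.mem_normalizer_iff.1 (hW x.2) (z : Ω)).1 hz)
  rw [map_mul, map_mul, map_inv, himg] at h1
  exact h1

/-- A map of a saturated system preserves `q` if its automorphisms of order prime to `p` do. -/
theorem pres_of_coprime [Finite S] [Fact p.Prime] (hS : IsPGroup p S) (hq : MulOn S q)
    {N : Subgroup Ω} (hNS : N ≤ S) {X : FusionSystem N} (hX : X.IsSaturated p)
    (h : ∀ P ≤ N, ∀ a ∈ X.autGroup P, (orderOf a).Coprime p →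
      Pres q (P.subtype.comp a.toMonoidHom))
    {φ : P →* Ω} (hφ : φ ∈ X.Hom P) : Pres q φ := by
  let D : FusionSystem N :=
    { Hom := fun P => {φ | φ ∈ X.Hom P ∧ Pres q φ}
      le_of_mem := fun h => X.le_of_mem h.1
      injective_of_mem := fun h => X.injective_of_mem h.1
      conj_mem := fun {P g} hP hg => ⟨X.conj_mem hP hg,
        fun x => hq.conj (hNS hg) (hNS (hP x.2))⟩
      comp_mem := fun {P R φ ψ} hφ hψ hle =>
        ⟨X.comp_mem hφ.1 hψ.1 hle, fun x => (hψ.2 ⟨φ x, hle x⟩).trans (hφ.2 x)⟩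
      inv_mem := fun {P φ} hφ => by
        obtain ⟨ψ, hψ, hv⟩ := X.inv_mem hφ.1
        refine ⟨ψ, ⟨hψ, ?_⟩, hv⟩
        rintro ⟨_, x, rfl⟩
        rw [hv x]
        exact (hφ.2 x).symm }
  haveI := finite_of_le hNS
  refine (CfsgLib.FusionPIndex.isSubsystemOf_of_pResidual (hS.to_le hNS) hX (D := D) le_rfl
    (fun R hR => ?_) P hφ).2
  rw [CfsgLib.Transfer.map_subtype_pResidual, Subgroup.closure_le]
  rintro a ⟨ha, hcop⟩
  exact IsIso.mem_autGroup ⟨(mem_autGroup_iff hR).1 ha, h R hR a ha hcop⟩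

/-- An automorphism of order prime to `p` preserves `q` if it does on a subgroup containing its
displacements. -/
theorem pres_of_displacement [Finite S] [Fact p.Prime] (hS : IsPGroup p S) (hq : MulOn S q)
    (hWS : W ≤ S) {a : MulAut W} (ha : (orderOf a).Coprime p) (U : Set Ω)
    (h1 : ∀ z : W, (z : Ω)⁻¹ * a z ∈ U) (h2 : ∀ u : W, (u : Ω) ∈ U → (a u : Ω) ∈ U)
    (h3 : ∀ u : W, (u : Ω) ∈ U → q (a u) = q u) : Pres q (W.subtype.comp a.toMonoidHom) := by
  intro z
  show q (a z : Ω) = q z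
  obtain ⟨u, hu⟩ : ∃ u : W, u = z⁻¹ * a z := ⟨_, rfl⟩
  have huU : (u : Ω) ∈ U := hu ▸ h1 z
  have hi : ∀ i : ℕ, ((a ^ i) u : Ω) ∈ U ∧ q ((a ^ i) u : Ω) = q u := by
    intro i
    induction i with
    | zero => exact ⟨huU, rfl⟩
    | succ i ih =>
      rw [pow_succ', MulAut.mul_apply]
      exact ⟨h2 _ ih.1, (h3 _ ih.1).trans ih.2⟩
  have haz : a z = z * u := by rw [hu, mul_inv_cancel_left]
  have hn : ∀ i : ℕ, q ((a ^ i) z : Ω) = q z * q u ^ i := by
    intro i
    induction i with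
    | zero => rw [pow_zero, pow_zero, mul_one]; rfl
    | succ i ih =>
      rw [pow_succ, MulAut.mul_apply, haz, map_mul, Subgroup.coe_mul,
        hq _ (hWS (Subtype.mem _)) _ (hWS (Subtype.mem _)), ih, (hi i).2, pow_succ, mul_assoc]
  have hord := hn (orderOf a)
  rw [pow_orderOf_eq_one] at hord
  have hu1 : q (u : Ω) = 1 := hq.eq_one_of_pow hS (hWS u.2) ha (left_eq_mul.1 hord)
  rw [haz, Subgroup.coe_mul, hq _ (hWS z.2) _ (hWS u.2), hu1, mul_one]

/-- A map of order prime to `p` of `N_F^K(Q)` comes from one of `P Q`. -/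
theorem exists_kAut [Finite S] [Fact p.Prime] (hQS : Q ≤ S) {K : Subgroup (MulAut Q)}
    {N : Subgroup Ω} (hN : N = kNormalizer S Q K) (hP : P ≤ N) {α : MulAut P}
    (hα : α ∈ (kSystem F hQS K hN).autGroup P) (hcop : (orderOf α).Coprime p) :
    ∃ β ∈ F.autGroup (P ⊔ Q), (orderOf β).Coprime p ∧
      (∀ x : P, (β (Subgroup.inclusion le_sup_left x) : Ω) = α x) ∧
      ∃ k ∈ K, ∀ y : Q, (β (Subgroup.inclusion le_sup_right y) : Ω) = k y := by
  obtain ⟨hφ, -, -, ψ, hψ, hψ1, k, hk, hψ2⟩ := (mem_autGroup_iff hP).1 hα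
  have hr : ψ.range = P ⊔ Q := by
    rw [range_extension hψ1 (imgHom_eq_of_forall le_sup_right hψ2), range_subtype_comp]
  obtain ⟨β, hβ, hβv⟩ := exists_iso hψ hr
  haveI := finite_of_le (le_left hψ)
  haveI := finite_of_le hQS
  obtain ⟨j, hj, hjm⟩ := CfsgLib.FusionNormal.exists_pow_coprime (p := p) (β : MulAut _) hcop
  refine ⟨(β : MulAut _) ^ j, pow_mem hβ.mem_autGroup j, hj, fun x => ?_, k ^ j, pow_mem hk j,
    fun y => ?_⟩
  · rw [CfsgLib.PPowerIndexNormal.pow_agree le_sup_left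
      (fun x => (hβv _).trans (hψ1 x)) j x, pow_eq_pow_iff_modEq.2 hjm, pow_one]
  · exact CfsgLib.PPowerIndexNormal.pow_agree le_sup_right
      (fun y => (hβv _).trans (hψ2 y)) j y

end CfsgLib.FusionEnvelope
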