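import Cfsg.Agent.FusionEnvelope.Preserve
import Cfsg.Agent.FusionLayer.Residual.Fix

/-!
# Maps of `F` preserve a `q` trivial on `T` preserved above `T`
-/

set_option autoImplicit false
set_option linter.unusedSectionVars false
set_option linter.style.haveILetI false

universe u v

namespace CfsgLib.FusionEnvelope

open Cfsg Cfsg.FusionSystem CfsgLib.Fusion CfsgLib.FusionAgemo CfsgLib.FusionNormal
  CfsgLib.FusionClosed

variable {Ω : Type u} [Group Ω] {S T P Q W : Subgroup Ω} {F : FusionSystem S}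
  {E : FusionSystem T} {p : ℕ}
variable {A : Type v} [CommGroup A] {q : Ω → A}
variable [Finite S] [Fact p.Prime]

/-- Conjugation in `Aut_F(Q)` preserves `Aut_E(Q)`. -/
theorem conj_mem_autGroup (hinv : E.IsInvariantIn F) (hQT : Q ≤ T) {a e : MulAut Q}
    (ha : a ∈ F.autGroup Q) (he : e ∈ E.autGroup Q) : a * e * a⁻¹ ∈ E.autGroup Q := by
  rw [← congr_self_eq]
  exact CfsgLib.Fusion.congr_mem_of_invariant (strongInvariant_of_invariant hinv) hQT hQT
    ((mem_autGroup_iff (hQT.trans hinv.2.1.1)).1 ha) he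

section Local

variable (hS : IsPGroup p S) (hF : F.IsSaturated p) (hE : E.IsNormalIn F p) (hq : MulOn S q)
  (hqT : ∀ t ∈ T, q t = 1) (hQT : Q ≤ T) (hcen : centralizerIn T Q ≤ Q)
  (hup : ∀ (W : Subgroup Ω) (φ : W →* Ω), φ ∈ F.Hom W → normalizerIn T Q ≤ W → Pres q φ)

include hS hF hE hq hqT hQT hcen hup in
/-- The maps acting on `Q` as `Aut_E(Q) Aut_S(Q)` preserve `q`. -/
theorem pres_eStab (hQ : F.IsFullyNormalized Q) {N : Subgroup Ω}
    (hN : N = kNormalizer S Q (E.autGroup Q ⊔ autInducedBy S Q)) {φ : P →* Ω}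
    (hφ : φ ∈ (kSystem F hQ.1 (E.autGroup Q ⊔ autInducedBy S Q) hN).Hom P) : Pres q φ := by
  obtain ⟨⟨hEs, -, hinv⟩, -⟩ := id hE
  have hT := hinv.2.1
  have hQS := hQ.1
  haveI := finite_of_le hQS
  haveI := finite_of_le hT.1
  obtain ⟨hQa, hQr⟩ := automized_receptive hS hF hQ
  have hQc := isFullyCentralized_of_receptive hQr
  have hSF : autInducedBy S Q ≤ F.autGroup Q := autInducedBy_le_autGroup hQS
  have hEF : E.autGroup Q ≤ F.autGroup Q := fun a ha =>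
    (mem_autGroup_iff hQS).2 (hinv.1 Q ((mem_autGroup_iff hQT).1 ha))
  have hnS : autInducedBy S Q ≤ Subgroup.normalizer (E.autGroup Q : Set (MulAut Q)) := by
    intro a ha
    refine Subgroup.mem_normalizer_iff.2 fun e =>
      ⟨conj_mem_autGroup hinv hQT (hSF ha), fun h => ?_⟩
    have h1 := conj_mem_autGroup hinv hQT (inv_mem (hSF ha)) h
    simpa [mul_assoc] using h1
  -- `Aut_S(Q) ∩ Aut_E(Q) = Aut_T(Q)`
  have hET : ∀ a ∈ autInducedBy S Q, a ∈ E.autGroup Q → a ∈ autInducedBy T Q := by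
    obtain ⟨hEa, -⟩ := automized_receptive (hS.to_le hT.1) hEs
      (CfsgLib.FusionNormal.fullyNormalized_of_le hS hF hinv hQT hQ)
    have hle : autInducedBy T Q ≤ autInducedBy S Q ⊓ E.autGroup Q :=
      le_inf (autInducedBy_mono hT.1 Q) (autInducedBy_le_autGroup hQT)
    haveI : Finite ↥(autInducedBy S Q ⊓ E.autGroup Q) := inferInstance
    have h := Subgroup.eq_of_le_of_card_ge hle
      (IsSylowIn.card_le hEa.2 (autInducedBy_le_autGroup hQT) inf_le_right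
        ((isPGroup_autInducedBy hS Q).to_le inf_le_left))
    exact fun a ha ha' => h.ge ⟨ha, ha'⟩
  obtain ⟨K, hK⟩ : ∃ K, K = E.autGroup Q ⊔ autInducedBy S Q := ⟨_, rfl⟩
  have hKF : K ≤ F.autGroup Q := hK ▸ sup_le hEF hSF
  have hSK : autInducedBy S Q ≤ K := hK ▸ le_sup_right
  have hKS : IsSylowIn p (F.autGroup Q ⊓ K) (autInducedBy S Q ⊓ K) := by
    rw [inf_eq_right.2 hKF, inf_eq_left.2 hSK]
    exact IsSylowIn.mono (H := F.autGroup Q) hQa.2 hSK hKF
  subst hK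
  have hNN : N = normalizerIn S Q := hN.trans (mem_kNormalizer_of_le hSK)
  have hNS : N ≤ S := hNN ▸ normalizerIn_le S Q
  have hsat := isSaturated_kSystem hS hF hQS hQr _ hKS hN
  refine pres_of_coprime hS hq hNS hsat (fun R hR a ha hcop => ?_) hφ
  obtain ⟨β, hβ, hβc, hβR, k, hk, hβQ⟩ := exists_kAut hQS hN hR ha hcop
  have hWS : R ⊔ Q ≤ S := sup_le (hR.trans hNS) hQS
  haveI := finite_of_le hWS
  have hWn : R ⊔ Q ≤ Subgroup.normalizer (Q : Set Ω) :=
    sup_le ((hR.trans hNN.le).trans inf_le_right) Subgroup.le_normalizer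
  -- `k` lies in `Aut_E(Q)`
  have hkE : k ∈ E.autGroup Q := by
    obtain ⟨e, he, s, hs, rfl⟩ := CfsgLib.FusionLayer.exists_mul_of_mem_sup hnS hk
    have hpw : ∀ n : ℕ, (e * s) ^ n * (s ^ n)⁻¹ ∈ E.autGroup Q := by
      intro n
      induction n with
      | zero => simp
      | succ n ih =>
        rw [show (e * s) ^ (n + 1) * (s ^ (n + 1))⁻¹ =
          ((e * s) ^ n * (s ^ n)⁻¹) * (s ^ n * e * (s ^ n)⁻¹) by
            rw [pow_succ, pow_succ]; group]
        exact mul_mem ih (conj_mem_autGroup hinv hQT (pow_mem (hSF hs) n) he)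
    have hk1 : (e * s) ^ orderOf β = 1 := MulEquiv.ext fun y => Subtype.ext (by
      rw [← CfsgLib.PPowerIndexNormal.pow_agree le_sup_right hβQ (orderOf β) y,
        pow_orderOf_eq_one]
      rfl)
    have h1 := hpw (orderOf β)
    rw [hk1, one_mul] at h1
    obtain ⟨m, hm⟩ := isPGroup_autInducedBy hS Q ⟨s, hs⟩
    have hsord : (orderOf β).Coprime (orderOf s) := Nat.Coprime.coprime_dvd_right
      (orderOf_dvd_of_pow_eq_one (congrArg Subtype.val hm)) (Nat.Coprime.pow_right m hβc)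
    obtain ⟨i, hi⟩ := exists_pow_eq_self_of_coprime hsord
    refine mul_mem he ?_
    rw [← hi]
    exact pow_mem ((Subgroup.inv_mem_iff _).1 h1) i
  have hkF : IsIso F k := (mem_autGroup_iff hQS).1 (hEF hkE)
  -- the action on `Q`
  let cW : ↥(R ⊔ Q) →* MulAut Q := Q.normalizerMonoidHom.comp (Subgroup.inclusion hWn)
  have hcW : ∀ (z : ↥(R ⊔ Q)) (y : Q), (cW z y : Ω) = z * y * (z : Ω)⁻¹ := fun z y => rfl
  have hcWS : ∀ z, cW z ∈ autInducedBy S Q := fun z =>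
    mem_autInducedBy_iff.2 ⟨z, hWS z.2, hWn z.2, fun _ => rfl⟩
  have hcWk : ∀ z, cW (β z) = k * cW z * k⁻¹ := fun z => MulEquiv.ext fun y => by
    obtain ⟨x, rfl⟩ := k.surjective y
    refine Subtype.ext ?_
    rw [MulAut.mul_apply, MulAut.mul_apply, MulAut.inv_apply_self, hcW, ← hβQ, ← hβQ,
      ← Subgroup.coe_inv, ← Subgroup.coe_mul, ← Subgroup.coe_mul, ← map_inv, ← map_mul, ← map_mul]
    exact congrArg (fun w => (β w : Ω)) (Subtype.ext rfl)
  let U : Subgroup ↥(R ⊔ Q) := (E.autGroup Q).comap cW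
  have hUW : U.map (R ⊔ Q).subtype ≤ R ⊔ Q := Subgroup.map_subtype_le _
  have hmemU : ∀ z : ↥(R ⊔ Q), (z : Ω) ∈ U.map (R ⊔ Q).subtype ↔ cW z ∈ E.autGroup Q := by
    refine fun z => ⟨?_, fun h => ⟨z, h, rfl⟩⟩
    rintro ⟨w, hw, hwz⟩
    obtain rfl : w = z := Subtype.ext hwz
    exact hw
  have hβU : ∀ u : ↥(R ⊔ Q), (u : Ω) ∈ U.map (R ⊔ Q).subtype →
      (β u : Ω) ∈ U.map (R ⊔ Q).subtype := by
    intro u hu
    rw [hmemU] at hu
    rw [hmemU, hcWk]
    exact mul_mem (mul_mem hkE hu) (inv_mem hkE)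
  refine pres_restrict (φ := (R ⊔ Q).subtype.comp β.toMonoidHom) (pres_of_displacement hS hq hWS
    hβc (U.map (R ⊔ Q).subtype : Set Ω) (fun z => ?_) hβU fun u hu => ?_)
    le_sup_left fun x => (hβR x).symm
  · refine (hmemU (z⁻¹ * β z)).2 ?_
    rw [map_mul, map_inv, hcWk, show (cW z)⁻¹ * (k * cW z * k⁻¹) =
      ((cW z)⁻¹ * k * ((cW z)⁻¹)⁻¹) * k⁻¹ by group]
    exact mul_mem (conj_mem_autGroup hinv hQT (inv_mem (hSF (hcWS z))) hkE) (inv_mem hkE)
  -- an extension of `k`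
  obtain ⟨ψ, hψ, hψv⟩ := exists_extension (T := extender S Q (Q.subtype.comp k.toMonoidHom))
    hQr hkF le_rfl
  have hQX : Q ≤ extender S Q (Q.subtype.comp k.toMonoidHom) :=
    le_extender hQS fun x => hQS (k x).2
  have hψQ : ∀ y : Q, ψ ⟨y, hQX y.2⟩ = (k y : Ω) := fun y => hψv y (hQX y.2)
  have hUX : U.map (R ⊔ Q).subtype ≤ extender S Q (Q.subtype.comp k.toMonoidHom) := by
    rintro _ ⟨z, -, rfl⟩
    refine mem_extender_of_congr (e := k) ⟨hWS z.2, hWn z.2⟩ (hcW z) ?_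
    rw [congr_self_eq, ← hcWk]
    exact hcWS _
  have hCX : centralizerIn S Q ≤ extender S Q (Q.subtype.comp k.toMonoidHom) :=
    centralizerIn_le_extender _
  have himgQ : imgHom ψ Q = Q := imgHom_eq_of_agree hQX hψv
  -- `ψ` preserves `q` on `C_S(Q)`
  obtain ⟨γ, hγF, hγQ, hγC⟩ := exists_goodLift hS hF hE hQT hQ hcen hkE
  have hRS : Q ⊔ centralizerIn S Q ≤ S := sup_le hQS (centralizerIn_le S Q)
  have hRX : Q ⊔ centralizerIn S Q ≤ extender S Q (Q.subtype.comp k.toMonoidHom) :=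
    sup_le hQX hCX
  have hψC : ∀ (c : ↥(extender S Q (Q.subtype.comp k.toMonoidHom))),
      (c : Ω) ∈ centralizerIn S Q → q (ψ c) = q c := by
    intro c hc
    let η : ↥(Q ⊔ centralizerIn S Q) →* Ω := (restrictHom ψ hRX).comp (γ⁻¹ : MulAut _).toMonoidHom
    have hη : η ∈ F.Hom (Q ⊔ centralizerIn S Q) :=
      mem_of_comp ((mem_autGroup_iff hRS).1 (inv_mem hγF)) (restrict_mem hψ hRX)
        (fun y => (γ⁻¹ y).2) fun y => rfl
    have hRN : Q ⊔ centralizerIn S Q ≤ normalizerIn S Q :=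
      sup_le (le_normalizerIn hQS) (centralizerIn_le_normalizerIn S Q)
    have hp := pres_fix hS hF hE hq hQT hcen hup hQc hη hRN le_sup_left fun y hy => by
      obtain ⟨x, hx⟩ : ∃ x : Q, (k x : Ω) = y := ⟨k⁻¹ ⟨y, hy⟩, by rw [MulAut.apply_inv_self]⟩
      have e : γ ⟨x, Subgroup.mem_sup_left x.2⟩ = y := Subtype.ext ((hγQ x).trans hx)
      show ψ (Subgroup.inclusion hRX (γ⁻¹ y)) = y
      rw [← e, MulAut.inv_apply_self, e, ← hx]
      exact hψQ x
    obtain ⟨w, hw⟩ : ∃ w : ↥(Q ⊔ centralizerIn S Q), w = ⟨c, Subgroup.mem_sup_right hc⟩ :=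
      ⟨_, rfl⟩
    have h1 := hp (γ w)
    have h2 : η (γ w) = ψ c := by
      show ψ (Subgroup.inclusion hRX (γ⁻¹ (γ w))) = ψ c
      rw [MulAut.inv_apply_self, hw]
      rfl
    have h3 : (w : Ω) = c := by rw [hw]
    have h4 := hγC w (h3 ▸ hc)
    rw [h2] at h1
    rw [h1, ← mul_inv_cancel_left (w : Ω) (γ w : Ω), hq _ (hRS w.2) _ (hQS h4),
      hqT _ (hQT h4), mul_one, h3]
  -- hence on `U`
  have hψU : ∀ z : ↥(R ⊔ Q), (hz : (z : Ω) ∈ U.map (R ⊔ Q).subtype) →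
      q (ψ ⟨z, hUX hz⟩) = q z := by
    intro z hz
    obtain ⟨t, ht, -, htv⟩ := mem_autInducedBy_iff.1 (hET _ (hcWS z) ((hmemU z).1 hz))
    have hc : t⁻¹ * (z : Ω) ∈ centralizerIn S Q := by
      refine mem_centralizerIn.2 ⟨S.mul_mem (S.inv_mem (hT.1 ht)) (hWS z.2), fun y hy => ?_⟩
      have h1 := (hcW z ⟨y, hy⟩).symm.trans (htv ⟨y, hy⟩)
      calc y * (t⁻¹ * z) = t⁻¹ * (t * y * t⁻¹) * z := by group
        _ = t⁻¹ * (z * y * (z : Ω)⁻¹) * z := by rw [← h1]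
        _ = t⁻¹ * z * y := by group
    have htX : t ∈ extender S Q (Q.subtype.comp k.toMonoidHom) := by
      have h1 := mul_mem (hUX hz) (inv_mem (hCX hc))
      rwa [show (z : Ω) * (t⁻¹ * z)⁻¹ = t by group] at h1
    have e : (⟨(z : Ω), hUX hz⟩ : ↥(extender S Q (Q.subtype.comp k.toMonoidHom))) =
        ⟨t, htX⟩ * ⟨t⁻¹ * z, hCX hc⟩ := Subtype.ext (mul_inv_cancel_left t (z : Ω)).symm
    rw [e, map_mul, hq _ (apply_mem hψ _) _ (apply_mem hψ _),
      hqT _ (apply_mem_stronglyClosed hT hψ (x := ⟨t, htX⟩) ht), one_mul, hψC _ hc]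
    conv_rhs => rw [← mul_inv_cancel_left t (z : Ω), hq _ (hT.1 ht) _ hc.1, hqT t ht, one_mul]
  -- what is left fixes `Q`
  haveI := finite_of_le (hUW.trans hWS)
  obtain ⟨e₁, he₁, he₁v⟩ := exists_iso_restrict hψ hUX
  have hQU : Q ≤ U.map (R ⊔ Q).subtype := fun y hy => by
    refine (hmemU ⟨y, Subgroup.mem_sup_right hy⟩).2 ?_
    exact autInducedBy_le_autGroup hQT (mem_autInducedBy_iff.2
      ⟨y, hQT hy, Subgroup.le_normalizer hy, fun _ => rfl⟩)
  let δ : ↥(imgHom ψ (U.map (R ⊔ Q).subtype)) →* Ω :=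
    ((R ⊔ Q).subtype.comp β.toMonoidHom).comp
      ((Subgroup.inclusion hUW).comp e₁.symm.toMonoidHom)
  have hδ : δ ∈ F.Hom (imgHom ψ (U.map (R ⊔ Q).subtype)) :=
    mem_of_comp he₁.symm (restrict_mem ((mem_autGroup_iff hWS).1 hβ) hUW)
      (fun y => (e₁.symm y).2) fun y => rfl
  have hXn : extender S Q (Q.subtype.comp k.toMonoidHom) ≤ Subgroup.normalizer (Q : Set Ω) :=
    (extender_le_normalizerIn _).trans inf_le_right
  have hIn : imgHom ψ (U.map (R ⊔ Q).subtype) ≤ normalizerIn S Q := by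
    rintro _ ⟨x, -, rfl⟩
    exact apply_mem_normalizerIn hψ hQX hXn himgQ x
  have hQI : Q ≤ imgHom ψ (U.map (R ⊔ Q).subtype) :=
    himgQ.ge.trans (imgHom_mono ψ hQU)
  have hp := pres_fix hS hF hE hq hQT hcen hup hQc hδ hIn hQI fun y hy => by
    obtain ⟨x, hx⟩ : ∃ x : Q, (k x : Ω) = y := ⟨k⁻¹ ⟨y, hy⟩, by rw [MulAut.apply_inv_self]⟩
    have e : e₁ ⟨x, hQU x.2⟩ = y := Subtype.ext ((he₁v _).trans ((hψQ x).trans hx))
    show (β (Subgroup.inclusion hUW (e₁.symm y)) : Ω) = y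
    rw [← e, MulEquiv.symm_apply_apply, e, ← hx]
    exact hβQ x
  have h1 := hp (e₁ ⟨u, hu⟩)
  have h2 : δ (e₁ ⟨u, hu⟩) = (β u : Ω) := by
    show (β (Subgroup.inclusion hUW (e₁.symm (e₁ ⟨u, hu⟩))) : Ω) = _
    rw [MulEquiv.symm_apply_apply]
    rfl
  rw [h2, he₁v] at h1
  exact h1.trans (hψU u hu)

include hS hF hE hq hqT hQT hcen hup in
/-- The maps of `N_F(Q)` preserve `q`. -/
theorem pres_normalizer (hQ : F.IsFullyNormalized Q) {φ : W →* Ω} (hφ : φ ∈ F.Hom W)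
    (hQW : Q ≤ W) (hWN : W ≤ normalizerIn S Q) (himg : imgHom φ Q = Q) : Pres q φ := by
  obtain ⟨⟨-, -, hinv⟩, -⟩ := id hE
  have hT := hinv.2.1
  have hQS := hQ.1
  haveI := finite_of_le hQS
  obtain ⟨hQa, hQr⟩ := automized_receptive hS hF hQ
  have hSF : autInducedBy S Q ≤ F.autGroup Q := autInducedBy_le_autGroup hQS
  have hEF : E.autGroup Q ≤ F.autGroup Q := fun a ha =>
    (mem_autGroup_iff hQS).2 (hinv.1 Q ((mem_autGroup_iff hQT).1 ha))
  have hnS : autInducedBy S Q ≤ Subgroup.normalizer (E.autGroup Q : Set (MulAut Q)) := by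
    intro a ha
    refine Subgroup.mem_normalizer_iff.2 fun e =>
      ⟨conj_mem_autGroup hinv hQT (hSF ha), fun h => ?_⟩
    have h1 := conj_mem_autGroup hinv hQT (inv_mem (hSF ha)) h
    simpa [mul_assoc] using h1
  have hWn : W ≤ Subgroup.normalizer (Q : Set Ω) := hWN.trans inf_le_right
  have hWS : W ≤ S := le_left hφ
  obtain ⟨a, ha, hav⟩ := exists_iso (restrict_mem hφ hQW) ((range_restrictHom φ hQW).trans himg)
  have haF : (a : MulAut Q) ∈ F.autGroup Q := ha.mem_autGroup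
  have hav' : ∀ y : Q, ((a : MulAut Q) y : Ω) = φ ⟨y, hQW y.2⟩ := hav
  let X : Subgroup (MulAut Q) := autInducedBy W Q ⊔ autInducedBy T Q
  have hXS : X ≤ autInducedBy S Q :=
    sup_le (autInducedBy_mono hWS Q) (autInducedBy_mono hT.1 Q)
  let Z : Subgroup (MulAut Q) := X.map (MulAut.conj (a : MulAut Q)).toMonoidHom
  have hZK : Z ≤ E.autGroup Q ⊔ autInducedBy S Q := by
    rw [Subgroup.map_le_iff_le_comap]
    refine sup_le (fun c hc => ?_) fun c hc => ?_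
    · obtain ⟨w, hw, hwn, hwv⟩ := mem_autInducedBy_iff.1 hc
      refine Subgroup.mem_sup_right (mem_autInducedBy_iff.2 ⟨φ ⟨w, hw⟩, apply_mem hφ _,
        (apply_mem_normalizerIn hφ hQW hWn himg _).2, fun y => ?_⟩)
      obtain ⟨x, rfl⟩ := (a : MulAut Q).surjective y
      show (((a : MulAut Q) * c * (a : MulAut Q)⁻¹) ((a : MulAut Q) x) : Ω) = _
      rw [MulAut.mul_apply, MulAut.mul_apply, MulAut.inv_apply_self, hav', hav', ← map_inv,
        ← map_mul, ← map_mul]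
      exact congrArg φ (Subtype.ext (hwv x))
    · exact Subgroup.mem_sup_left
        (conj_mem_autGroup hinv hQT haF (autInducedBy_le_autGroup hQT hc))
  have hZp : IsPGroup p Z := ((isPGroup_autInducedBy hS Q).to_le hXS).map _
  have hSyl : IsSylowIn p (E.autGroup Q ⊔ autInducedBy S Q) (autInducedBy S Q) :=
    IsSylowIn.mono (H := F.autGroup Q) hQa.2 le_sup_right (sup_le hEF hSF)
  obtain ⟨k, hk, hkZ⟩ := hSyl.exists_conj hZK hZp
  obtain ⟨e, he, s, hs, hes⟩ :=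
    CfsgLib.FusionLayer.exists_mul_of_mem_sup hnS (inv_mem hk)
  -- the automorphism `b` moves `X` into `Aut_S(Q)`
  obtain ⟨b, hb⟩ : ∃ b, b = e⁻¹ * (a : MulAut Q) := ⟨_, rfl⟩
  have hbX : ∀ c ∈ X, b * c * b⁻¹ ∈ autInducedBy S Q := by
    intro c hc
    have h1 := hkZ _ ⟨c, hc, rfl⟩
    have h2 := mul_mem (mul_mem hs h1) (inv_mem hs)
    have hk' : k = s⁻¹ * e⁻¹ := by rw [← inv_inv k, ← hes, mul_inv_rev]
    rw [hk'] at h2
    rw [hb]
    convert h2 using 1
    show _ = s * (s⁻¹ * e⁻¹ * ((a : MulAut Q) * c * (a : MulAut Q)⁻¹) * (s⁻¹ * e⁻¹)⁻¹) * s⁻¹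
    group
  have hbF : IsIso F b := (mem_autGroup_iff hQS).1 (hb ▸ mul_mem (inv_mem (hEF he)) haF)
  have hext : ∀ g ∈ normalizerIn S Q, (∀ hg : g ∈ Subgroup.normalizer (Q : Set Ω),
      Q.normalizerMonoidHom ⟨g, hg⟩ ∈ X) → g ∈ extender S Q (Q.subtype.comp b.toMonoidHom) := by
    intro g hg hgX
    refine mem_extender_of_congr (e := b) hg (α := Q.normalizerMonoidHom ⟨g, hg.2⟩)
      (fun _ => rfl) ?_
    rw [congr_self_eq]
    exact hbX _ (hgX hg.2)
  obtain ⟨ψ, hψ, hψv⟩ := exists_extension (T := extender S Q (Q.subtype.comp b.toMonoidHom))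
    hQr hbF le_rfl
  have hTX : normalizerIn T Q ≤ extender S Q (Q.subtype.comp b.toMonoidHom) := fun t ht =>
    hext t ⟨hT.1 ht.1, ht.2⟩ fun hg => Subgroup.mem_sup_right
      (mem_autInducedBy_iff.2 ⟨t, ht.1, hg, fun _ => rfl⟩)
  have hWX : W ≤ extender S Q (Q.subtype.comp b.toMonoidHom) := fun w hw =>
    hext w (hWN hw) fun hg => Subgroup.mem_sup_left
      (mem_autInducedBy_iff.2 ⟨w, hw, hg, fun _ => rfl⟩)
  have hψp := hup _ ψ hψ hTX
  have hQX : Q ≤ extender S Q (Q.subtype.comp b.toMonoidHom) := hQW.trans hWX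
  have himgψ : imgHom ψ Q = Q := imgHom_eq_of_agree hQX hψv
  haveI := finite_of_le hWS
  obtain ⟨e₁, he₁, he₁v⟩ := exists_iso_restrict hψ hWX
  have hIn : imgHom ψ W ≤ normalizerIn S Q := by
    rintro _ ⟨x, -, rfl⟩
    exact apply_mem_normalizerIn hψ hQX ((extender_le_normalizerIn _).trans inf_le_right) himgψ x
  have hQI : Q ≤ imgHom ψ W := himgψ.ge.trans (imgHom_mono ψ hQW)
  let δ : ↥(imgHom ψ W) →* Ω := φ.comp e₁.symm.toMonoidHom
  have hδ : δ ∈ F.Hom (imgHom ψ W) := mem_of_comp he₁.symm hφ (fun y => (e₁.symm y).2) fun _ => rfl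
  have hN : normalizerIn S Q = kNormalizer S Q (E.autGroup Q ⊔ autInducedBy S Q) :=
    (mem_kNormalizer_of_le le_sup_right).symm
  have hδK : δ ∈ (kSystem F hQ.1 (E.autGroup Q ⊔ autInducedBy S Q) hN).Hom (imgHom ψ W) := by
    refine ⟨hδ, hIn, fun y => apply_mem_normalizerIn hφ hQW hWn himg (e₁.symm y),
      restrictHom δ (sup_le le_rfl hQI), restrict_mem hδ _, fun _ => rfl, e,
      Subgroup.mem_sup_left he, fun y => ?_⟩
    obtain ⟨x, rfl⟩ := b.surjective y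
    show δ ⟨(b x : Ω), _⟩ = _
    have e2 : (⟨(b x : Ω), hQI (b x).2⟩ : ↥(imgHom ψ W)) = e₁ ⟨x, hQW x.2⟩ :=
      Subtype.ext (((he₁v _).trans (hψv x (hQX x.2))).symm)
    refine (congrArg δ e2).trans ?_
    show φ (e₁.symm (e₁ ⟨x, hQW x.2⟩)) = _
    rw [MulEquiv.symm_apply_apply, ← hav', hb, MulAut.mul_apply, MulAut.apply_inv_self]
  have hδp := pres_eStab hS hF hE hq hqT hQT hcen hup hQ hN hδK
  intro x
  have h1 := hδp (e₁ x)
  have h2 : δ (e₁ x) = φ x := congrArg φ (e₁.symm_apply_apply x)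
  rw [h2, he₁v] at h1
  exact h1.trans (hψp _)

end Local

/-- If the maps defined above `T` preserve `q`, so do all maps. -/
theorem pres_of_top (hS : IsPGroup p S) (hF : F.IsSaturated p) (hE : E.IsNormalIn F p)
    (hq : MulOn S q) (hqT : ∀ t ∈ T, q t = 1)
    (htop : ∀ (W : Subgroup Ω) (φ : W →* Ω), φ ∈ F.Hom W → T ≤ W → Pres q φ)
    {φ : P →* Ω} (hφ : φ ∈ F.Hom P) : Pres q φ := by
  obtain ⟨⟨hEs, -, hinv⟩, -⟩ := id hE
  have hT := hinv.2.1
  haveI := finite_of_le hT.1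
  -- the maps whose source meets `T` in a centric subgroup
  have hcentric : ∀ (d : ℕ) (P : Subgroup Ω) (φ : P →* Ω), φ ∈ F.Hom P → E.IsCentric (P ⊓ T) →
      Nat.card T ≤ Nat.card ↥(P ⊓ T) + d → Pres q φ := by
    intro d
    induction d using Nat.strong_induction_on with
    | _ d ih =>
    intro P φ hφ hc hd
    by_cases hTP : T ≤ P
    · exact htop P φ hφ hTP
    obtain ⟨Q, hQ⟩ : ∃ Q, Q = P ⊓ T := ⟨_, rfl⟩
    have hPS := le_left hφ
    have hQT : Q ≤ T := hQ ▸ inf_le_right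
    have hQS : Q ≤ S := hQT.trans hT.1
    have hQne : Q < T := lt_of_le_of_ne hQT fun h => hTP (h.ge.trans (hQ.le.trans inf_le_left))
    obtain ⟨Q', hQQ', hQ'⟩ := exists_fullyNormalized (F := F) hQS
    obtain ⟨hQ'a, hQ'r⟩ := automized_receptive hS hF hQ'
    have hQ'T : Q' ≤ T := by
      obtain ⟨f, hf, rfl⟩ := id hQQ'
      rintro _ ⟨x, rfl⟩
      exact apply_mem_stronglyClosed hT hf (hQT x.2)
    have hQc : E.IsCentric Q := hQ ▸ hc
    -- larger subgroups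
    have hbig : ∀ Q₀ : Subgroup Ω, F.IsConj Q Q₀ → Q₀ ≤ T → ∀ (W : Subgroup Ω) (f : W →* Ω),
        f ∈ F.Hom W → normalizerIn T Q₀ ≤ W → Pres q f := by
      intro Q₀ hconj hQ₀T W f hf hW
      have hQ₀ne : Q₀ < T := lt_of_le_of_ne hQ₀T fun h => by
        subst h
        have h1 := Subgroup.card_le_of_le hQT
        have h2 := card_eq_of_isConj hconj
        exact hQne.ne (Subgroup.eq_of_le_of_card_ge hQT h2.ge)
      have hlt := lt_normalizerIn (hS.to_le hT.1) hQ₀ne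
      have hle : normalizerIn T Q₀ ≤ W ⊓ T := le_inf hW (normalizerIn_le T Q₀)
      haveI : Finite ↥(W ⊓ T) := finite_of_le (inf_le_right.trans hT.1)
      haveI := finite_of_le (hQ₀T.trans hT.1)
      haveI := finite_of_le ((normalizerIn_le T Q₀).trans hT.1)
      have hcard : Nat.card ↥(P ⊓ T) < Nat.card ↥(W ⊓ T) := by
        rw [← hQ, card_eq_of_isConj hconj]
        exact (Set.Finite.card_lt_card (Set.toFinite _) hlt).trans_le (Subgroup.card_le_of_le hle)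
      have hcard' : Nat.card ↥(W ⊓ T) ≤ Nat.card T := Subgroup.card_le_of_le inf_le_right
      exact ih (d - 1) (by omega) W f hf
        (isCentric_of_le (isCentric_of_F_isConj hinv hQc hconj hQ₀T) (hlt.le.trans hle) inf_le_right)
        (by omega)
    -- move `P` and its image
    obtain ⟨ν₁, hν₁, hν₁N, hν₁Q⟩ := exists_map_normalizerIn hS hQ'a hQ'r hQQ'
    have hQP : Q ≤ P := hQ.le.trans inf_le_left
    have hQ₂ : F.IsConj Q (imgHom φ Q) := isConj_restrict hφ hQP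
    have hQ₂T : imgHom φ Q ≤ T := by
      rintro _ ⟨x, hx, rfl⟩
      exact apply_mem_stronglyClosed hT hφ (hQT hx)
    obtain ⟨ν₂, hν₂, hν₂N, hν₂Q⟩ :=
      exists_map_normalizerIn hS hQ'a hQ'r (isConj_trans (isConj_symm hQ₂) hQQ')
    have hν₁p := hbig Q (isConj_refl hQS) hQT _ ν₁ hν₁ fun t ht => ⟨hT.1 ht.1, ht.2⟩
    have hν₂p := hbig _ hQ₂ hQ₂T _ ν₂ hν₂ fun t ht => ⟨hT.1 ht.1, ht.2⟩
    haveI := finite_of_le hPS
    haveI := finite_of_le hQS
    have hPn : P ≤ normalizerIn S Q := fun g hg => ⟨hPS hg,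
      CfsgLib.SatCriterion.mem_normalizer_of_finite fun y hy => by
        subst hQ
        exact ⟨P.mul_mem (P.mul_mem hg hy.1) (P.inv_mem hg),
          conj_mem_stronglyClosed hT (hPS hg) hy.2⟩⟩
    have hφn : ∀ x : P, φ x ∈ normalizerIn S (imgHom φ Q) := by
      intro x
      haveI := finite_of_le (hQ₂T.trans hT.1)
      refine ⟨apply_mem hφ x, CfsgLib.SatCriterion.mem_normalizer_of_finite ?_⟩
      rintro _ ⟨y, hy, rfl⟩
      rw [← map_inv, ← map_mul, ← map_mul]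
      exact apply_mem_imgHom φ (x := x * y * x⁻¹)
        ((Subgroup.mem_normalizer_iff.1 (hPn x.2).2 (y : Ω)).1 hy)
    obtain ⟨e₁, he₁, he₁v⟩ := exists_iso_restrict hν₁ hPn
    let χ : ↥(imgHom ν₁ P) →* Ω :=
      (ν₂.comp (φ.codRestrict (normalizerIn S (imgHom φ Q)) hφn)).comp e₁.symm.toMonoidHom
    have hχ : χ ∈ F.Hom (imgHom ν₁ P) :=
      mem_of_comp he₁.symm (F.comp_mem hφ hν₂ hφn) (fun y => (e₁.symm y).2) fun _ => rfl
    have hIn : imgHom ν₁ P ≤ normalizerIn S Q' := by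
      rintro _ ⟨x, -, rfl⟩
      exact hν₁N x
    have hQ'I : Q' ≤ imgHom ν₁ P := hν₁Q.ge.trans (imgHom_mono ν₁ hQP)
    have himgχ : imgHom χ Q' = Q' := by
      haveI := finite_of_le (hQ'T.trans hT.1)
      refine Subgroup.eq_of_le_of_card_ge ?_ ?_
      · rintro _ ⟨y, hy, rfl⟩
        obtain ⟨z, hz, hzy⟩ := hν₁Q.ge hy
        have e : e₁.symm y = ⟨z, hQP hz⟩ := (MulEquiv.symm_apply_eq e₁).2
          (Subtype.ext (hzy.symm.trans (he₁v ⟨z, hQP hz⟩).symm))
        show ν₂ ⟨φ (e₁.symm y), hφn _⟩ ∈ Q'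
        rw [show (⟨φ (e₁.symm y), hφn _⟩ : normalizerIn S (imgHom φ Q)) = ⟨φ ⟨z, hQP hz⟩, hφn _⟩
          from Subtype.ext (congrArg φ e)]
        have h := apply_mem_imgHom ν₂ (R := imgHom φ Q) (x := ⟨φ ⟨z, hQP hz⟩, hφn _⟩)
          ⟨⟨z, hQP hz⟩, hz, rfl⟩
        rwa [hν₂Q] at h
      · rw [card_imgHom (F.injective_of_mem hχ) hQ'I]
    have hp := pres_normalizer hS hF hE hq hqT hQ'T (centralizerIn_le_of_isConj hinv hQc hQQ')
      (hbig Q' hQQ' hQ'T) hQ' hχ hQ'I hIn himgχ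
    intro x
    have h1 := hp (e₁ x)
    have h2 : χ (e₁ x) = ν₂ ⟨φ x, hφn x⟩ := by
      show ν₂ ⟨φ (e₁.symm (e₁ x)), hφn _⟩ = _
      rw [e₁.symm_apply_apply]
    rw [h2, hν₂p, he₁v, hν₁p] at h1
    exact h1
  -- the general case
  let D : FusionSystem S :=
    { Hom := fun R => {f | f ∈ F.Hom R ∧ Pres q f}
      le_of_mem := fun h => F.le_of_mem h.1
      injective_of_mem := fun h => F.injective_of_mem h.1
      conj_mem := fun {R g} hR hg => ⟨F.conj_mem hR hg, fun x => hq.conj hg (hR x.2)⟩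
      comp_mem := fun {R U f g} hf hg hle =>
        ⟨F.comp_mem hf.1 hg.1 hle, fun x => (hg.2 ⟨f x, hle x⟩).trans (hf.2 x)⟩
      inv_mem := fun {R f} hf => by
        obtain ⟨g, hg, hv⟩ := F.inv_mem hf.1
        refine ⟨g, ⟨hg, ?_⟩, hv⟩
        rintro ⟨_, x, rfl⟩
        rw [hv x]
        exact (hf.2 x).symm }
  refine (isSubsystemOf_of_aut (E := D) hS hF (fun R hR habove α hα => ?_) P hφ).2
  obtain ⟨hRa, hRr⟩ := automized_receptive hS hF hR
  have hiso : IsIso F α := (mem_autGroup_iff hR.1).1 hα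
  haveI := finite_of_le hR.1
  by_cases hC : centralizerIn S R ≤ R
  · have hRc : F.IsCentric R :=
      isCentric_of_fullyCentralized hS hF (isFullyCentralized_of_receptive hRr) hC
    by_cases hFam : R ∈ CfsgLib.KernelSubsystem.Fam F E
    · exact ⟨hiso, hcentric (Nat.card T) R _ hiso (hFam.2 R (isConj_refl hR.1))
        (Nat.le_add_left _ _)⟩
    · obtain ⟨g, hg, hgR, c, hc, hcv⟩ :=
        CfsgLib.KernelSubsystem.moves_of_not_mem hS hF hT hinv.1 hRc hR hFam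
      exact aut_mem_of_normal_pgroup hRa hRr habove (pCore p (F.autGroup R))
        CfsgLib.SatCriterion.pCore_normal' (CfsgLib.PLocal.isPGroup_pCore p _) hg hgR hc hcv α hα
  · obtain ⟨ψ, hψ, hψv⟩ := exists_extension (T := R ⊔ centralizerIn S R) hRr hiso
      (sup_le (le_extender hR.1 (F.le_of_mem hiso).2) (centralizerIn_le_extender _))
    haveI := finite_of_le (le_left hψ)
    have hlt : Nat.card R < Nat.card ↥(R ⊔ centralizerIn S R) := by
      by_contra hc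
      exact hC (le_sup_right.trans
        (Subgroup.eq_of_le_of_card_ge le_sup_left (not_lt.1 hc)).ge)
    exact mem_of_agree (habove _ hlt ψ hψ) le_sup_left fun x => (hψv x _).symm

end CfsgLib.FusionEnvelope
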