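import Cfsg.Agent.FusionEnvelope.Basic

/-!
# The focal subgroup and a normal subsystem

`E` is normal in `F` over `T` and `q` is a function, multiplicative on `S` and trivial on `T`. If
the maps defined above `T` preserve `q`, so does every map of `F` (`pres_of_top`): the focal
subgroup of `F` is `T` times that of `N_F(T)`.
-/

set_option autoImplicit false
set_option linter.unusedSectionVars false

universe u v

namespace CfsgLib.FusionEnvelope

open Cfsg Cfsg.FusionSystem CfsgLib.Fusion CfsgLib.FusionAgemo CfsgLib.FusionNormal CfsgLib.FusionClosed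

variable {Ω : Type u} [Group Ω] {S T P Q W : Subgroup Ω} {F : FusionSystem S}
  {E : FusionSystem T} {p : ℕ}
variable {A : Type v} [CommGroup A] {q : Ω → A}
variable [Finite S] [Fact p.Prime]

omit [Fact p.Prime] in
theorem le_of_normal_pgroup {G : Type*} [Group G] [Fact p.Prime] {H K X : Subgroup G} [Finite H]
    (h : IsSylowIn p H K) (hXH : X ≤ H) (hX : IsPGroup p X)
    (hn : ∀ a ∈ H, ∀ x ∈ X, a * x * a⁻¹ ∈ X) : X ≤ K := by
  obtain ⟨a, ha, hx⟩ := h.exists_conj hXH hX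
  intro x hxX
  have h1 := hx _ (hn a⁻¹ (H.inv_mem ha) x hxX)
  rwa [inv_inv, show a * (a⁻¹ * x * a) * a⁻¹ = x by group] at h1

/-- If `P` is fully centralized in `C_F(Q)` then `P Q` is fully centralized in `F`. -/
theorem isFullyCentralized_sup (hS : IsPGroup p S) (hF : F.IsSaturated p)
    (hQ : F.IsFullyCentralized Q) {C : FusionSystem (centralizerIn S Q)}
    (hC : ∀ R, C.Hom R = F.centralizerHom Q R) (hP : C.IsFullyCentralized P) :
    F.IsFullyCentralized (P ⊔ Q) := by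
  have hPS : P ≤ S := hP.1.trans (centralizerIn_le S Q)
  refine ⟨sup_le hPS hQ.1, fun Y hY => ?_⟩
  obtain ⟨φ, hφ, rfl⟩ := hY
  obtain ⟨f, hf, hfv⟩ := exists_iso_restrict hφ (le_sup_right : Q ≤ P ⊔ Q)
  have hQr := receptive_of_fullyCentralized hS hF hQ
  have hQ'S : imgHom φ Q ≤ S := imgHom_le hφ Q
  haveI := finite_of_le hQ'S
  haveI := finite_of_le (centralizerIn_le S P)
  obtain ⟨ψ, hψ, hψv⟩ := exists_extension (T := imgHom φ Q ⊔ centralizerIn S (imgHom φ Q))
    hQr hf.symm (sup_le (le_extender hQ'S (F.le_of_mem hf.symm).2) (centralizerIn_le_extender _))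
  have himg := imgHom_eq_of_agree le_sup_left hψv
  have hcent : ∀ x : ↥(P ⊔ Q), (x : Ω) ∈ P → φ x ∈ centralizerIn S (imgHom φ Q) := by
    intro x hx
    refine mem_centralizerIn.2 ⟨apply_mem hφ x, ?_⟩
    rintro _ ⟨y, hy, rfl⟩
    rw [← map_mul, ← map_mul]
    exact congrArg φ (Subtype.ext ((mem_centralizerIn.1 (hP.1 hx)).2 (y : Ω) hy))
  have hmem : ∀ x, φ x ∈ imgHom φ Q ⊔ centralizerIn S (imgHom φ Q) := by
    intro x
    have h1 : φ x ∈ imgHom φ (P ⊔ Q) := ⟨x, x.2, rfl⟩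
    rw [imgHom_sup φ le_sup_left le_sup_right] at h1
    have h2 : imgHom φ P ⊔ imgHom φ Q ≤ imgHom φ Q ⊔ centralizerIn S (imgHom φ Q) := by
      refine sup_le ?_ le_sup_left
      rintro y ⟨z, hz, rfl⟩
      exact Subgroup.mem_sup_right (hcent z hz)
    exact h2 h1
  let χ : ↥(P ⊔ Q) →* Ω := ψ.comp (φ.codRestrict _ hmem)
  have hχ : χ ∈ F.Hom (P ⊔ Q) := F.comp_mem hφ hψ hmem
  have hχQ : ∀ y : Q, χ (Subgroup.inclusion le_sup_right y) = y := by
    intro y
    have h1 := hψv (f y) (Subgroup.mem_sup_left (f y).2)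
    rw [MulEquiv.symm_apply_apply] at h1
    refine Eq.trans ?_ h1
    exact congrArg ψ (Subtype.ext (hfv y).symm)
  have hχP : restrictHom χ (le_sup_left : P ≤ P ⊔ Q) ∈ C.Hom P := by
    rw [hC]
    refine ⟨restrict_mem hχ le_sup_left, hP.1, fun x => ?_, χ, hχ, fun x => rfl, hχQ⟩
    refine mem_centralizerIn.2 ⟨apply_mem hχ _, fun y hy => ?_⟩
    have h1 := congrArg χ (Subtype.ext ((mem_centralizerIn.1 (hP.1 x.2)).2 y hy) :
      Subgroup.inclusion le_sup_right ⟨y, hy⟩ * Subgroup.inclusion le_sup_left x =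
        Subgroup.inclusion le_sup_left x * Subgroup.inclusion le_sup_right ⟨y, hy⟩)
    rw [map_mul, map_mul, hχQ] at h1
    exact h1
  have hsub : centralizerIn (centralizerIn S Q) P ≤ centralizerIn S (P ⊔ Q) := by
    intro z hz
    refine ⟨hz.1.1, ?_⟩
    have h1 : P ⊔ Q ≤ Subgroup.centralizer {z} := sup_le
      (fun y hy => Subgroup.mem_centralizer_singleton_iff.2
        (Subgroup.mem_centralizer_iff.1 hz.2 y hy))
      (fun y hy => Subgroup.mem_centralizer_singleton_iff.2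
        (Subgroup.mem_centralizer_iff.1 hz.1.2 y hy))
    exact Subgroup.mem_centralizer_iff.2 fun y hy =>
      Subgroup.mem_centralizer_singleton_iff.1 (h1 hy)
  have hle : centralizerIn S φ.range ≤ imgHom φ Q ⊔ centralizerIn S (imgHom φ Q) :=
    (centralizerIn_anti (imgHom_le_range φ Q)).trans le_sup_right
  haveI := finite_of_le (centralizerIn_le S φ.range)
  haveI : Finite ↥(centralizerIn (centralizerIn S Q) (restrictHom χ
    (le_sup_left : P ≤ P ⊔ Q)).range) :=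
    finite_of_le ((centralizerIn_le _ _).trans (centralizerIn_le S Q))
  haveI := finite_of_le (centralizerIn_le S (P ⊔ Q))
  refine le_trans ?_ ((hP.2 _ ⟨_, hχP, rfl⟩).trans (Subgroup.card_le_of_le hsub))
  refine Nat.card_le_card_of_injective (fun z : centralizerIn S φ.range =>
    (⟨ψ ⟨z, hle z.2⟩, ?_⟩ : centralizerIn (centralizerIn S Q)
      (restrictHom χ (le_sup_left : P ≤ P ⊔ Q)).range)) fun a b h => ?_
  · have h1 := map_mem_centralizer (ψ := ψ) le_sup_left (g := ⟨z, hle z.2⟩)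
      ((centralizerIn_anti (imgHom_le_range φ Q) z.2).2)
    rw [himg] at h1
    refine mem_centralizerIn.2 ⟨⟨apply_mem hψ _, h1⟩, ?_⟩
    rintro _ ⟨x, rfl⟩
    show χ _ * _ = _ * χ _
    show ψ ⟨φ (Subgroup.inclusion le_sup_left x), hmem _⟩ * ψ _ =
      ψ _ * ψ ⟨φ (Subgroup.inclusion le_sup_left x), hmem _⟩
    rw [← map_mul, ← map_mul]
    exact congrArg ψ (Subtype.ext ((mem_centralizerIn.1 z.2).2 _ ⟨_, rfl⟩))
  · exact Subtype.ext (congrArg Subtype.val
      (F.injective_of_mem hψ (congrArg Subtype.val h : ψ _ = ψ _)) :)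

section Local

/-! ### Around one fully centralized centric subgroup of `T` -/

variable (hS : IsPGroup p S) (hF : F.IsSaturated p) (hE : E.IsNormalIn F p) (hq : MulOn S q)
  (hqT : ∀ t ∈ T, q t = 1) (hQT : Q ≤ T) (hcen : centralizerIn T Q ≤ Q)
  (hup : ∀ (W : Subgroup Ω) (φ : W →* Ω), φ ∈ F.Hom W → normalizerIn T Q ≤ W → Pres q φ)

include hS hF hE hq hQT hcen hup in
/-- The maps of `C_F(Q)` preserve `q`. -/
theorem pres_centralizer (hQ : F.IsFullyCentralized Q) {φ : P →* Ω}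
    (hφ : φ ∈ F.centralizerHom Q P) : Pres q φ := by
  obtain ⟨⟨-, -, hinv⟩, -⟩ := hE
  have hT := hinv.2.1
  let C : FusionSystem (centralizerIn S Q) := kSystem F hQ.1 ⊥ kNormalizer_bot.symm
  have hC : ∀ R, C.Hom R = F.centralizerHom Q R := fun R => kHom_bot F Q R
  have hCs : C.IsSaturated p := isSaturated_centralizerSystem hS hF hQ hC
  have hNS := centralizerIn_le S Q
  haveI := finite_of_le hNS
  let D : FusionSystem (centralizerIn S Q) :=
    { Hom := fun R => {φ | φ ∈ C.Hom R ∧ Pres q φ}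
      le_of_mem := fun h => C.le_of_mem h.1
      injective_of_mem := fun h => C.injective_of_mem h.1
      conj_mem := fun {R g} hR hg => ⟨C.conj_mem hR hg,
        fun x => hq.conj (hNS hg) (hNS (hR x.2))⟩
      comp_mem := fun {R U f g} hf hg hle =>
        ⟨C.comp_mem hf.1 hg.1 hle, fun x => (hg.2 ⟨f x, hle x⟩).trans (hf.2 x)⟩
      inv_mem := fun {R f} hf => by
        obtain ⟨g, hg, hv⟩ := C.inv_mem hf.1
        refine ⟨g, ⟨hg, ?_⟩, hv⟩
        rintro ⟨_, x, rfl⟩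
        rw [hv x]
        exact (hf.2 x).symm }
  rw [← hC] at hφ
  refine (isSubsystemOf_of_aut (E := D) (hS.to_le hNS) hCs (fun P hP habove α hα => ?_) P hφ).2
  clear hφ φ
  obtain ⟨hPa, hPr⟩ := automized_receptive (hS.to_le hNS) hCs hP
  have hPN := hP.1
  have hiso : IsIso C α := (mem_autGroup_iff hPN).1 hα
  haveI := finite_of_le hPN
  by_cases hcP : centralizerIn (centralizerIn S Q) P ≤ P
  swap
  · obtain ⟨ψ, hψ, hψv⟩ := exists_extension
      (T := P ⊔ centralizerIn (centralizerIn S Q) P) hPr hiso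
      (sup_le (le_extender hPN (C.le_of_mem hiso).2) (centralizerIn_le_extender _))
    haveI := finite_of_le (le_left hψ)
    have hlt : Nat.card P < Nat.card ↥(P ⊔ centralizerIn (centralizerIn S Q) P) := by
      by_contra hc
      exact hcP (le_sup_right.trans
        (Subgroup.eq_of_le_of_card_ge le_sup_left (not_lt.1 hc)).ge)
    exact mem_of_agree (habove _ hlt ψ hψ) le_sup_left fun x => (hψv x _).symm
  refine ⟨hiso, ?_⟩
  have hisoC : P.subtype.comp α.toMonoidHom ∈ F.centralizerHom Q P := (hC P).le hiso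
  obtain ⟨hαF, -, -, ψ, hψ, hψ1, hψ2⟩ := hisoC
  have hPS := hPN.trans hNS
  haveI := finite_of_le (hQT.trans hT.1)
  have hWS : P ⊔ Q ≤ S := sup_le hPS hQ.1
  haveI := finite_of_le hWS
  -- elements of `P ∩ Q`
  have hZ : ∀ z ∈ centralizerIn Q Q, z ∈ P := fun z hz => hcP ⟨⟨hQ.1 hz.1, hz.2⟩,
    Subgroup.mem_centralizer_iff.2 fun y hy =>
      ((Subgroup.mem_centralizer_iff.1 (hPN hy).2) z hz.1).symm⟩
  have hfixQ : ∀ a ∈ C.autGroup P, ∀ y : P, (y : Ω) ∈ Q → a y = y := by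
    intro a ha y hy
    have haC : P.subtype.comp a.toMonoidHom ∈ F.centralizerHom Q P :=
      (hC P).le ((mem_autGroup_iff hPN).1 ha)
    obtain ⟨-, -, -, g, -, hg1, hg2⟩ := haC
    refine Subtype.ext ((hg1 y).symm.trans (Eq.trans ?_ (hg2 ⟨y, hy⟩)))
    exact congrArg g (Subtype.ext rfl)
  -- the extension of `α` to `P Q`
  have hr : ψ.range = P ⊔ Q := by
    rw [range_extension hψ1 (imgHom_eq_of_forall (α := 1) le_sup_right hψ2), range_subtype_comp]
  obtain ⟨β, hβ, hβv⟩ := exists_iso hψ hr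
  have hβP : ∀ x : P, ((β : MulAut _) (Subgroup.inclusion le_sup_left x) : Ω) = α x :=
    fun x => (hβv _).trans (hψ1 x)
  have hβQ : ∀ y : Q, ((β : MulAut _) (Subgroup.inclusion le_sup_right y) : Ω) = (1 : MulAut Q) y :=
    fun y => (hβv _).trans (hψ2 y)
  have hWr := receptive_of_fullyCentralized hS hF (isFullyCentralized_sup hS hF hQ hC
    (isFullyCentralized_of_receptive hPr))
  -- it extends to `P N_T(Q)`
  have hext : normalizerIn T Q ≤ extender S (P ⊔ Q) ((P ⊔ Q).subtype.comp β.toMonoidHom) := by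
    intro t ht
    have htS := hT.1 ht.1
    have hd : ∀ y ∈ P, y⁻¹ * (t * y * t⁻¹) ∈ centralizerIn Q Q := by
      intro y hy
      have hyC := hPN hy
      have h1 : y⁻¹ * (t * y * t⁻¹) ∈ T := by
        have h2 := conj_mem_stronglyClosed hT (S.inv_mem (hNS hyC)) ht.1
        rw [show y⁻¹ * (t * y * t⁻¹) = y⁻¹ * t * y⁻¹⁻¹ * t⁻¹ by group]
        exact T.mul_mem h2 (T.inv_mem ht.1)
      have h2 : y⁻¹ * (t * y * t⁻¹) ∈ Subgroup.centralizer (Q : Set Ω) := by
        refine mul_mem (inv_mem hyC.2) (Subgroup.mem_centralizer_iff.2 fun z hz => ?_)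
        have hz' := Subgroup.mem_centralizer_iff.1 hyC.2 _
          ((Subgroup.mem_normalizer_iff''.1 ht.2 z).1 hz)
        calc z * (t * y * t⁻¹) = t * ((t⁻¹ * z * t) * y) * t⁻¹ := by group
          _ = t * (y * (t⁻¹ * z * t)) * t⁻¹ := by rw [hz']
          _ = t * y * t⁻¹ * z := by group
      exact ⟨hcen ⟨h1, h2⟩, h2⟩
    have htP : t ∈ Subgroup.normalizer (P : Set Ω) := by
      refine CfsgLib.SatCriterion.mem_normalizer_of_finite fun y hy => ?_
      have h1 := P.mul_mem hy (hZ _ (hd y hy))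
      rwa [mul_inv_cancel_left] at h1
    have htW : t ∈ Subgroup.normalizer ((P ⊔ Q : Subgroup Ω) : Set Ω) := by
      refine CfsgLib.SatCriterion.mem_normalizer_of_finite fun y hy => ?_
      have h1 : (P ⊔ Q).map (MulAut.conj t).toMonoidHom ≤ P ⊔ Q := by
        rw [Subgroup.map_sup]
        refine sup_le_sup ?_ ?_
        · rintro _ ⟨z, hz, rfl⟩
          exact (Subgroup.mem_normalizer_iff.1 htP z).1 hz
        · rintro _ ⟨z, hz, rfl⟩
          exact (Subgroup.mem_normalizer_iff.1 ht.2 z).1 hz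
      exact h1 ⟨y, hy, rfl⟩
    let γ : MulAut P := P.normalizerMonoidHom ⟨t, htP⟩
    let γQ : MulAut Q := Q.normalizerMonoidHom ⟨t, ht.2⟩
    let γW : MulAut ↥(P ⊔ Q) := (P ⊔ Q).normalizerMonoidHom ⟨t, htW⟩
    have hγP : ∀ x : P, (γW (Subgroup.inclusion le_sup_left x) : Ω) = γ x := fun x => rfl
    have hγQ : ∀ y : Q, (γW (Subgroup.inclusion le_sup_right y) : Ω) = γQ y := fun y => rfl
    obtain ⟨κW, hκW⟩ : ∃ κ, κ = (β : MulAut _) * γW * (β : MulAut _)⁻¹ * γW⁻¹ := ⟨_, rfl⟩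
    obtain ⟨κ, hκ⟩ : ∃ κ, κ = α * γ * α⁻¹ * γ⁻¹ := ⟨_, rfl⟩
    have hκP : ∀ x : P, (κW (Subgroup.inclusion le_sup_left x) : Ω) = κ x := by
      rw [hκW, hκ]
      exact agree_mul (agree_mul (agree_mul hβP hγP) (agree_inv hβP)) (agree_inv hγP)
    have hκQ : ∀ y : Q, (κW (Subgroup.inclusion le_sup_right y) : Ω) = y := by
      have h1 := agree_mul (agree_mul (agree_mul hβQ hγQ) (agree_inv hβQ)) (agree_inv hγQ)
      rw [hκW]
      intro y
      rw [h1 y, one_mul, inv_one, mul_one, mul_inv_cancel]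
      rfl
    have hγWF : γW ∈ F.autGroup (P ⊔ Q) := autInducedBy_le_autGroup hWS
      (mem_autInducedBy_iff.2 ⟨t, htS, htW, fun _ => rfl⟩)
    have hκWF : κW ∈ F.autGroup (P ⊔ Q) := hκW ▸
      mul_mem (mul_mem (mul_mem hβ.mem_autGroup hγWF) (inv_mem hβ.mem_autGroup)) (inv_mem hγWF)
    have hκC : κ ∈ C.autGroup P := by
      refine IsIso.mem_autGroup (show IsIso C κ from ?_)
      show _ ∈ C.Hom P
      rw [hC]
      exact ⟨mem_of_agree ((mem_autGroup_iff hWS).1 hκWF) le_sup_left fun x => (hκP x).symm,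
        hPN, fun x => hPN (κ x).2, _, (mem_autGroup_iff hWS).1 hκWF, hκP, hκQ⟩
    -- the automorphisms trivial modulo `P ∩ Q`
    let K₀ : Subgroup (MulAut P) :=
      { carrier := {k | ∀ y : P, (y : Ω)⁻¹ * k y ∈ Q}
        one_mem' := fun y => by simp
        mul_mem' := fun {a b} ha hb y => by
          rw [MulAut.mul_apply]
          simpa [mul_assoc] using Q.mul_mem (hb y) (ha (b y))
        inv_mem' := fun {a} ha y => by
          have h1 := Q.inv_mem (ha (a⁻¹ y))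
          rwa [MulAut.apply_inv_self, mul_inv_rev, inv_inv] at h1 }
    have hconj : ∀ a ∈ C.autGroup P, ∀ k ∈ K₀, a * k * a⁻¹ ∈ K₀ := by
      intro a ha k hk y
      obtain ⟨w, rfl⟩ := a.surjective y
      have h1 : (((w⁻¹ * k w : P)) : Ω) ∈ Q := hk w
      have h2 := hfixQ a ha _ h1
      rw [MulAut.mul_apply, MulAut.mul_apply, MulAut.inv_apply_self,
        ← Subgroup.coe_inv, ← Subgroup.coe_mul, ← map_inv, ← map_mul, h2]
      exact h1
    have hγK : γ ∈ K₀ := fun y => (hd y y.2).1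
    have hκK : κ ∈ K₀ := hκ ▸ mul_mem (hconj α hα γ hγK) (inv_mem hγK)
    have hK₁p : IsPGroup p ↥(K₀ ⊓ C.autGroup P) := by
      obtain ⟨m, hm⟩ := (hS.to_le hPS).exists_card_eq
      rintro ⟨k, hk, hkC⟩
      refine ⟨m, Subtype.ext ?_⟩
      rw [SubgroupClass.coe_pow, ← hm]
      exact CfsgLib.FusionLayer.pow_eq_one_of_displacement
        (fun x => hfixQ k hkC _ (hk x)) fun x => pow_card_eq_one'
    obtain ⟨g, hg, -, hgv⟩ := mem_autInducedBy_iff.1 (le_of_normal_pgroup hPa.2 inf_le_right hK₁p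
      (fun a ha x hx => ⟨hconj a ha x hx.1, (C.autGroup P).mul_mem ((C.autGroup P).mul_mem ha hx.2) ((C.autGroup P).inv_mem ha)⟩)
      (⟨hκK, hκC⟩ : κ ∈ K₀ ⊓ C.autGroup P))
    have hκg : ∀ w : ↥(P ⊔ Q), (κW w : Ω) = g * w * g⁻¹ := by
      have h1 : P ⊔ Q ≤ (((P ⊔ Q).subtype.comp κW.toMonoidHom).eqLocus
          ((MulAut.conj g).toMonoidHom.comp (P ⊔ Q).subtype)).map (P ⊔ Q).subtype := by
        refine sup_le (fun x hx => ⟨⟨x, Subgroup.mem_sup_left hx⟩, ?_, rfl⟩)
          (fun y hy => ⟨⟨y, Subgroup.mem_sup_right hy⟩, ?_, rfl⟩)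
        · exact (hκP ⟨x, hx⟩).trans (hgv ⟨x, hx⟩)
        · refine (hκQ ⟨y, hy⟩).trans ?_
          show y = g * y * g⁻¹
          rw [← (mem_centralizerIn.1 hg).2 y hy, mul_inv_cancel_right]
      intro w
      obtain ⟨v, hv, hvw⟩ := h1 w.2
      obtain rfl : v = w := Subtype.ext hvw
      exact hv
    refine mem_extender_iff.2 ⟨htS, htW, g * t, S.mul_mem (hNS hg) htS, fun x hx => ?_⟩
    have h1 := hκg (γW (β x))
    have h2 : κW (γW (β x)) = (β : MulAut _) (γW x) := by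
      rw [hκW]
      show (β : MulAut _) (γW ((β : MulAut _)⁻¹ (γW⁻¹ (γW ((β : MulAut _) x))))) = _
      rw [MulAut.inv_apply_self, MulAut.inv_apply_self]
    rw [h2] at h1
    show ((β : MulAut _) (γW x) : Ω) = g * t * (β x : Ω) * (g * t)⁻¹
    rw [h1]
    show g * (t * (β x : Ω) * t⁻¹) * g⁻¹ = _
    group
  obtain ⟨η, hη, hηv⟩ := exists_extension
    (T := extender S (P ⊔ Q) ((P ⊔ Q).subtype.comp β.toMonoidHom)) hWr hβ le_rfl
  have hWX : P ⊔ Q ≤ extender S (P ⊔ Q) ((P ⊔ Q).subtype.comp β.toMonoidHom) :=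
    le_extender hWS fun x => hWS (β x).2
  exact pres_restrict (hup _ η hη hext) (le_sup_left.trans hWX) fun x =>
    ((hηv ⟨x, Subgroup.mem_sup_left x.2⟩ _).trans (hβP x)).symm

include hS hF hE hq hQT hcen hup in
/-- The maps fixing `Q` preserve `q`. -/
theorem pres_fix (hQ : F.IsFullyCentralized Q) {φ : W →* Ω} (hφ : φ ∈ F.Hom W)
    (hWN : W ≤ normalizerIn S Q) (hQW : Q ≤ W) (hfix : ∀ x : W, (x : Ω) ∈ Q → φ x = x) :
    Pres q φ := by
  have hQS := hQ.1
  haveI := finite_of_le hQS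
  let K : Subgroup (MulAut Q) := autInducedBy S Q
  have hKF : K ≤ F.autGroup Q := autInducedBy_le_autGroup hQS
  have hKS : IsSylowIn p (F.autGroup Q ⊓ K) (autInducedBy S Q ⊓ K) := by
    rw [inf_eq_right.2 hKF, inf_idem]
    exact isSylowIn_of_card_max le_rfl (isPGroup_autInducedBy hS Q)
      fun X hX _ => Subgroup.card_le_of_le hX
  have hN : normalizerIn S Q = kNormalizer S Q K := (mem_kNormalizer_of_le le_rfl).symm
  have hsat := isSaturated_kSystem hS hF hQS (receptive_of_fullyCentralized hS hF hQ) K hKS hN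
  have hWn : W ≤ Subgroup.normalizer (Q : Set Ω) := hWN.trans inf_le_right
  have himg : imgHom φ Q = Q := imgHom_eq_of_forall hQW (α := 1) fun y => hfix _ y.2
  have hφK : φ ∈ (kSystem F hQS K hN).Hom W := by
    refine ⟨hφ, hWN, apply_mem_normalizerIn hφ hQW hWn himg,
      restrictHom φ (sup_le le_rfl hQW), restrict_mem hφ _, fun x => rfl, 1, one_mem _,
      fun y => ?_⟩
    exact hfix _ y.2
  refine pres_of_coprime hS hq (normalizerIn_le S Q) hsat (fun P hP a ha hcop => ?_) hφK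
  obtain ⟨β, hβ, hβc, hβP, k, hk, hβQ⟩ := exists_kAut hQS hN hP ha hcop
  have hWS : P ⊔ Q ≤ S := sup_le (hP.trans (normalizerIn_le S Q)) hQS
  haveI := finite_of_le hWS
  -- `β` fixes `Q`
  have hk1 : k = 1 := by
    obtain ⟨m, hm⟩ := isPGroup_autInducedBy hS Q ⟨k, hk⟩
    have h1 : k ^ orderOf β = 1 := MulEquiv.ext fun y => Subtype.ext (by
      rw [← CfsgLib.PPowerIndexNormal.pow_agree le_sup_right hβQ (orderOf β) y,
        pow_orderOf_eq_one]
      rfl)
    exact orderOf_eq_one_iff.1 (Nat.eq_one_of_dvd_coprimes (Nat.Coprime.pow_right m hβc)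
      (orderOf_dvd_of_pow_eq_one h1) (orderOf_dvd_of_pow_eq_one (congrArg Subtype.val hm)))
  subst hk1
  have hPn : P ⊔ Q ≤ Subgroup.normalizer (Q : Set Ω) :=
    sup_le (hP.trans inf_le_right) Subgroup.le_normalizer
  have hβF := (mem_autGroup_iff hWS).1 hβ
  refine pres_restrict (φ := (P ⊔ Q).subtype.comp β.toMonoidHom) (pres_of_displacement hS hq hWS
    hβc (centralizerIn S Q : Set Ω) (fun z => ?_) (fun u hu => ?_) fun u hu => ?_)
    le_sup_left fun x => (hβP x).symm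
  · refine mem_centralizerIn.2 ⟨S.mul_mem (S.inv_mem (hWS z.2)) (hWS (β z).2), fun y hy => ?_⟩
    have hzy : (z : Ω) * y * (z : Ω)⁻¹ ∈ Q := (Subgroup.mem_normalizer_iff.1 (hPn z.2) y).1 hy
    have h1 := hβQ ⟨_, hzy⟩
    have h2 : (β (z * Subgroup.inclusion le_sup_right ⟨y, hy⟩ * z⁻¹) : Ω) =
        z * y * (z : Ω)⁻¹ := by
      refine Eq.trans (congrArg (fun w => (β w : Ω)) (Subtype.ext ?_)) h1
      rfl
    rw [map_mul, map_mul, map_inv, Subgroup.coe_mul, Subgroup.coe_mul, Subgroup.coe_inv,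
      hβQ ⟨y, hy⟩] at h2
    calc y * ((z : Ω)⁻¹ * (β z : Ω)) = (z : Ω)⁻¹ * (z * y * (z : Ω)⁻¹) * β z := by group
      _ = (z : Ω)⁻¹ * β z * y := by
        rw [← h2]
        show (z : Ω)⁻¹ * ((β z : Ω) * y * (β z : Ω)⁻¹) * β z = _
        group
  · refine mem_centralizerIn.2 ⟨hWS (β u).2, fun y hy => ?_⟩
    have h1 := congrArg (fun w : ↥(P ⊔ Q) => (β w : Ω))
      (Subtype.ext ((mem_centralizerIn.1 hu).2 y hy) :
        Subgroup.inclusion le_sup_right ⟨y, hy⟩ * u = u * Subgroup.inclusion le_sup_right ⟨y, hy⟩)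
    simp only [map_mul, Subgroup.coe_mul, hβQ ⟨y, hy⟩] at h1
    exact h1
  · have hle : (P ⊔ Q) ⊓ centralizerIn S Q ≤ P ⊔ Q := inf_le_left
    refine pres_centralizer hS hF hE hq hQT hcen hup hQ
      (φ := restrictHom ((P ⊔ Q).subtype.comp β.toMonoidHom) hle) ?_ ⟨u, u.2, hu⟩
    refine ⟨restrict_mem hβF hle, inf_le_right, fun x => ?_,
      restrictHom ((P ⊔ Q).subtype.comp β.toMonoidHom) (sup_le hle le_sup_right),
      restrict_mem hβF _, fun x => rfl, fun y => hβQ y⟩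
    refine mem_centralizerIn.2 ⟨hWS (β _).2, fun y hy => ?_⟩
    have h1 := congrArg (fun w : ↥(P ⊔ Q) => (β w : Ω))
      (Subtype.ext ((mem_centralizerIn.1 x.2.2).2 y hy) :
        Subgroup.inclusion le_sup_right ⟨y, hy⟩ * Subgroup.inclusion hle x =
          Subgroup.inclusion hle x * Subgroup.inclusion le_sup_right ⟨y, hy⟩)
    simp only [map_mul, Subgroup.coe_mul, hβQ ⟨y, hy⟩] at h1
    exact h1

end Local

end CfsgLib.FusionEnvelope
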