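import Cfsg.Agent.FusionEnvelope.Envelope
import Cfsg.Agent.S5200
import Cfsg.Agent.S5293

/-!
# The envelope when the centralizer of `E` lies in `T`

Then `E` has `p`-power index in its envelope.
-/

set_option autoImplicit false
set_option linter.unusedSectionVars false
set_option linter.style.haveILetI false

universe u

namespace CfsgLib.FusionEnvelope

open Cfsg Cfsg.FusionSystem CfsgLib.Fusion CfsgLib.FusionAgemo CfsgLib.FusionClosed

variable {Ω : Type u} [Group Ω] {S T : Subgroup Ω} {F : FusionSystem S} {E : FusionSystem T}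
  {p : ℕ}

/-- `E` has `p`-power index in its envelope when its centralizer lies in `T`. -/
theorem hasPPowerIndexIn_envelope [Finite S] [Fact p.Prime] (hS : IsPGroup p S)
    (hF : F.IsSaturated p) (hE : E.IsNormalIn F p)
    (hCE : ∀ Y : Subgroup Ω, Y ≤ centralizerIn S T →
      (∀ C : FusionSystem (centralizerIn S Y), F.IsCentralizerSystem Y C → E.IsSubsystemOf C) →
      Y ≤ T)
    {F₀ : FusionSystem (T ⊔ centralizerIn S T)} (h : IsEnvelope F E p F₀) :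
    E.HasPPowerIndexIn F₀ p := by
  classical
  obtain ⟨⟨-, -, hinv⟩, hext⟩ := id hE
  have hT := hinv.2.1
  have hTS := hT.1
  have hRS : T ⊔ centralizerIn S T ≤ S := sup_le hTS (centralizerIn_le S T)
  haveI := finite_of_le hRS
  haveI := finite_of_le hTS
  obtain ⟨⟨⟨hF₀, -, hinv₀⟩, -⟩, hE₀, haut, -, -⟩ := h
  have hfr := hE₀.1.2.2
  have hTR : T ≤ T ⊔ centralizerIn S T := le_sup_left
  have hab := (Cfsg.Agent.S5200.result p hS F hF E hE hCE).1
  obtain ⟨R, hR⟩ : ∃ R, R = T ⊔ centralizerIn S T := ⟨_, rfl⟩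
  have hCn : centralizerIn S T ≤ Subgroup.normalizer (T : Set Ω) :=
    (centralizerIn_le_normalizerIn S T).trans inf_le_right
  -- `R / T` is abelian
  have hTn : (T.subgroupOf R).Normal := by
    refine ⟨fun t ht g => ?_⟩
    exact conj_mem_stronglyClosed hT ((hR.le.trans hRS) g.2) ht
  haveI := hTn
  letI : CommGroup (R ⧸ T.subgroupOf R) :=
    { (inferInstance : Group (R ⧸ T.subgroupOf R)) with
      mul_comm := fun x y => by
        obtain ⟨a, rfl⟩ := QuotientGroup.mk'_surjective (T.subgroupOf R) x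
        obtain ⟨b, rfl⟩ := QuotientGroup.mk'_surjective (T.subgroupOf R) y
        refine mul_inv_eq_one.1 ?_
        rw [mul_inv_rev, ← mul_assoc, ← map_mul, ← map_inv, ← map_mul, ← map_inv, ← map_mul]
        refine (QuotientGroup.eq_one_iff _).2 (hab ?_)
        exact Subgroup.commutator_mem_commutator (hR.le a.2) (hR.le b.2) }
  obtain ⟨q, hqd⟩ : ∃ q : Ω → R ⧸ T.subgroupOf R, ∀ (x : Ω) (h : x ∈ R),
      q x = QuotientGroup.mk' (T.subgroupOf R) ⟨x, h⟩ :=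
    ⟨fun x => if h : x ∈ R then QuotientGroup.mk' (T.subgroupOf R) ⟨x, h⟩ else 1,
      fun x h => by simp [h]⟩
  subst hR
  have hq : MulOn (T ⊔ centralizerIn S T) q := fun a ha b hb => by
    rw [hqd a ha, hqd b hb, hqd _ (mul_mem ha hb), ← map_mul]
    rfl
  have hqT' : ∀ (x : Ω) (h : x ∈ T ⊔ centralizerIn S T), q x = 1 ↔ x ∈ T := fun x h => by
    rw [hqd x h]
    exact QuotientGroup.eq_one_iff _
  have hqT : ∀ t ∈ T, q t = 1 := fun t ht => (hqT' t (hTR ht)).2 ht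
  -- the centralizer system of `T`
  let D : FusionSystem (centralizerIn S T) := kSystem F hTS ⊥ kNormalizer_bot.symm
  have hD : F.IsCentralizerSystem T D := fun P => kHom_bot F T P
  obtain ⟨Z, hZ⟩ : ∃ Z, Z = sSup {X : Subgroup Ω | X ≤ centralizerIn S T ∧
      ∀ P : Subgroup Ω, E.Hom P ⊆ F.centralizerHom X P} := ⟨_, rfl⟩
  have hZT : Z ≤ T := hZ ▸ sSup_le fun X hX =>
    hCE X hX.1 fun C hC P φ hφ => (hC P).ge (hX.2 P hφ)
  have hfoc : D.focalSubgroup ≤ T :=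
    (Cfsg.Agent.S5293.result p hS F hF E hE Z hZ D hD).trans hZT
  have htop : ∀ (W : Subgroup Ω) (φ : W →* Ω), φ ∈ F₀.Hom W → T ≤ W → Pres q φ := by
    intro W φ hφ hTW x
    have hWR := le_left hφ
    have hφF : φ ∈ F.Hom W := hinv₀.1 W hφ
    have hr : (restrictHom φ hTW).range = T := by
      refine Subgroup.eq_of_le_of_card_ge ?_ ?_
      · rintro _ ⟨y, rfl⟩
        exact apply_mem_stronglyClosed hT hφF (x := ⟨y, hTW y.2⟩) y.2
      · rw [range_restrictHom, card_imgHom (F.injective_of_mem hφF) hTW]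
    obtain ⟨a, ha, hav⟩ := exists_iso (restrict_mem hφ hTW) hr
    have haE : (a : MulAut T) ∈ E.autGroup T := haut ▸ ha.mem_autGroup
    obtain ⟨β, hβ, hβ1, hβ2⟩ := hext _ haE
    obtain ⟨t, ht, c, hc, htc⟩ := CfsgLib.FusionLayer.exists_mul_of_mem_sup hCn (hWR x.2)
    have hcW : c ∈ W := by
      rw [show c = t⁻¹ * (x : Ω) by rw [← htc, inv_mul_cancel_left]]
      exact W.mul_mem (W.inv_mem (hTW ht)) x.2
    let δ : W →* Ω := ((T ⊔ centralizerIn S T).subtype.comp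
      (β⁻¹ : MulAut ↥(T ⊔ centralizerIn S T)).toMonoidHom).comp
      (φ.codRestrict (T ⊔ centralizerIn S T) (apply_mem hφ))
    have hδ : δ ∈ F.Hom W :=
      mem_of_comp hφF ((mem_autGroup_iff hRS).1 (inv_mem hβ)) (apply_mem hφ) fun _ => rfl
    have hδT : ∀ y : T, δ ⟨y, hTW y.2⟩ = y := fun y => by
      show ((β⁻¹ : MulAut ↥(T ⊔ centralizerIn S T)) ⟨φ ⟨y, hTW y.2⟩, _⟩ : Ω) = y
      have e : (⟨φ ⟨y, hTW y.2⟩, apply_mem hφ _⟩ : ↥(T ⊔ centralizerIn S T)) =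
          β (Subgroup.inclusion le_sup_left y) :=
        Subtype.ext ((hav y).symm.trans (hβ1 y).symm)
      rw [e, MulAut.inv_apply_self]
      rfl
    have hδC : ∀ z : W, (z : Ω) ∈ centralizerIn S T → δ z ∈ centralizerIn S T := by
      intro z hz
      refine mem_centralizerIn.2 ⟨apply_mem hδ z, fun y hy => ?_⟩
      have h1 := congrArg δ (Subtype.ext ((mem_centralizerIn.1 hz).2 y hy) :
        (⟨y, hTW hy⟩ : W) * z = z * ⟨y, hTW hy⟩)
      rwa [map_mul, map_mul, hδT ⟨y, hy⟩] at h1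
    have hdfix : restrictHom δ (inf_le_left : W ⊓ centralizerIn S T ≤ W) ∈
        D.Hom (W ⊓ centralizerIn S T) := by
      refine (hD _).ge ⟨restrict_mem hδ inf_le_left, inf_le_right, fun z => hδC _ z.2.2,
        restrictHom δ (sup_le inf_le_left hTW), restrict_mem hδ _, fun _ => rfl, fun y => hδT y⟩
    have hu : c⁻¹ * δ ⟨c, hcW⟩ ∈ T :=
      hfoc (Subgroup.subset_closure
        ⟨_, _, (⟨c, hcW, hc⟩ : ↥(W ⊓ centralizerIn S T)), hdfix, rfl⟩)
    have hdC := hδC ⟨c, hcW⟩ hc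
    have hdR : δ ⟨c, hcW⟩ ∈ T ⊔ centralizerIn S T := Subgroup.mem_sup_right hdC
    have hφc : φ ⟨c, hcW⟩ = (β ⟨δ ⟨c, hcW⟩, hdR⟩ : Ω) := by
      show φ ⟨c, hcW⟩ = (β ((β⁻¹ : MulAut ↥(T ⊔ centralizerIn S T))
        ⟨φ ⟨c, hcW⟩, apply_mem hφ _⟩) : Ω)
      rw [MulAut.apply_inv_self]
    have hz := (hβ2 ⟨δ ⟨c, hcW⟩, hdR⟩ hdC).1
    have ex : x = ⟨t, hTW ht⟩ * ⟨c, hcW⟩ := Subtype.ext htc.symm
    rw [ex, map_mul, Subgroup.coe_mul, hq _ (apply_mem hφ _) _ (apply_mem hφ _),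
      hq _ (hTR ht) _ (Subgroup.mem_sup_right hc), hqT t ht,
      hqT _ (apply_mem_stronglyClosed hT hφF (x := ⟨t, hTW ht⟩) ht), one_mul, one_mul, hφc,
      ← mul_inv_cancel_left (δ ⟨c, hcW⟩) (β ⟨δ ⟨c, hcW⟩, hdR⟩ : Ω), hq _ hdR _ (hTR hz), hqT _ hz,
      mul_one, ← mul_inv_cancel_left c (δ ⟨c, hcW⟩), hq _ (Subgroup.mem_sup_right hc) _ (hTR hu),
      hqT _ hu, mul_one]
  refine ⟨hfr.1, (Subgroup.closure_le _).2 ?_, fun P hP α hα => ?_⟩
  · rintro y ⟨P, α, x, hP, hα, rfl⟩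
    have h1 : (x : Ω) ∈ T ⊔ centralizerIn S T := hP x.2
    have h2 : (((α : MulAut P) x : P) : Ω) ∈ T ⊔ centralizerIn S T := hP ((α : MulAut P) x).2
    have h3 := pres_of_top (hS.to_le hRS) hF₀ hE₀ hq hqT htop ((mem_autGroup_iff hP).1 α.2) x
    refine (hqT' _ (mul_mem (inv_mem h1) h2)).1 ?_
    rw [hq _ (inv_mem h1) _ h2, hq.inv h1]
    exact inv_mul_eq_one.2 h3.symm
  · have hαF₀ : α ∈ F₀.autGroup P := Subgroup.map_subtype_le _ hα
    obtain ⟨a, ha, φ₀, hφ₀, hv⟩ :=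
      hfr.2.2.2 P hP _ ((mem_autGroup_iff (hP.trans hTR)).1 hαF₀)
    rw [haut] at ha
    refine IsIso.mem_autGroup (show IsIso E α from ?_)
    exact mem_of_comp hφ₀ ((mem_autGroup_iff le_rfl).1 ha) (apply_mem hφ₀)
      fun y => hv y (apply_mem hφ₀ y)

end CfsgLib.FusionEnvelope
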