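import Cfsg.Agent.FusionEnvelope.FocalTop
import Cfsg.Agent.FusionEnvelope.Residual
import Cfsg.Agent.PLocal.PSolvable

/-!
# The two reductions for a normal subsystem with `p`-solvable automizer quotient

For a normal `K ≥ Aut_E(T)` of `Aut_F(T)` with quotient a `p'`-group or an abelian `p`-group there
is a normal subsystem of index prime to `p`, respectively of `p`-power index, inducing only elements
of `K` on `T`, containing every saturated subsystem over `T C_S(T)` which does so.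
-/

set_option autoImplicit false
set_option linter.unusedSectionVars false
set_option linter.style.haveILetI false

universe u

namespace CfsgLib.FusionEnvelope

open Cfsg Cfsg.FusionSystem CfsgLib.Fusion CfsgLib.FusionAgemo CfsgLib.FusionClosed
open CfsgLib.PrimeToPIndex (pGen)

/-- A nontrivial `p`-solvable group has a proper normal subgroup with quotient of order prime to
`p` or an abelian `p`-group. -/
theorem exists_top_step {G : Type*} [Group G] [Finite G] [Nontrivial G] {p : ℕ} [Fact p.Prime]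
    (h : IsPSolvable p G) : ∃ K : Subgroup G, K.Normal ∧ K ≠ ⊤ ∧
      (K.index.Coprime p ∨ ((∀ a b : G, a * b * a⁻¹ * b⁻¹ ∈ K) ∧ ∀ a : G, ∃ j : ℕ, a ^ p ^ j ∈ K)) := by
  obtain ⟨n, C, h0, hlast, hmono, hnorm, hfac⟩ := h
  obtain ⟨i, hi, hi'⟩ : ∃ i : Fin n, C i.castSucc ≠ ⊤ ∧ C i.succ = ⊤ := by
    by_contra hcon
    push_neg at hcon
    have hall : ∀ j : Fin (n + 1), C j ≠ ⊤ := by
      intro j
      induction j using Fin.induction with
      | zero =>
        rw [h0]
        exact bot_ne_top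
      | succ i ih => exact hcon i ih
    exact hall _ hlast
  have hn := hnorm i.castSucc
  have hidx : (C i.castSucc).relIndex (C i.succ) = (C i.castSucc).index := by
    rw [hi', Subgroup.relIndex_top_right]
  rcases hfac i with ⟨m, hm⟩ | hm
  swap
  · exact ⟨_, hn, hi, Or.inl (hidx ▸ hm)⟩
  rw [hidx] at hm
  have hQ : IsPGroup p (G ⧸ C i.castSucc) :=
    IsPGroup.of_card (n := m) (by rw [← Subgroup.index_eq_card, hm])
  haveI : Nontrivial (G ⧸ C i.castSucc) := QuotientGroup.nontrivial_iff.2 hi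
  haveI : Group.IsNilpotent (G ⧸ C i.castSucc) := hQ.isNilpotent
  have hcomm : commutator (G ⧸ C i.castSucc) ≠ ⊤ :=
    (Group.IsSolvable.commutator_lt_top_of_nontrivial (G ⧸ C i.castSucc)).ne
  refine ⟨(commutator (G ⧸ C i.castSucc)).comap (QuotientGroup.mk' _), inferInstance, fun htop => ?_,
    Or.inr ⟨fun a b => ?_, fun a => ?_⟩⟩
  · refine hcomm (top_le_iff.1 fun x _ => ?_)
    obtain ⟨g, rfl⟩ := QuotientGroup.mk'_surjective (C i.castSucc) x
    exact (htop.ge (Subgroup.mem_top g) :)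
  · show QuotientGroup.mk' (C i.castSucc) (a * b * a⁻¹ * b⁻¹) ∈ commutator (G ⧸ C i.castSucc)
    rw [map_mul, map_mul, map_mul, map_inv, map_inv]
    exact Subgroup.commutator_mem_commutator (Subgroup.mem_top _) (Subgroup.mem_top _)
  · obtain ⟨j, hj⟩ := hQ (QuotientGroup.mk' _ a)
    refine ⟨j, ?_⟩
    show QuotientGroup.mk' (C i.castSucc) (a ^ p ^ j) ∈ commutator (G ⧸ C i.castSucc)
    rw [map_pow, hj]
    exact one_mem _

variable {Ω : Type u} [Group Ω] {S T P U : Subgroup Ω} {p : ℕ}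

/-- An automorphism of a normal fully normalized subgroup is one of `p`-power generation composed
with a restriction of an automorphism of the whole group. -/
theorem exists_decomp_aut [Finite S] [Fact p.Prime] (hS : IsPGroup p S) {X : FusionSystem S}
    (hX : X.IsSaturated p) (hP : X.IsFullyNormalized P)
    (hn : S ≤ Subgroup.normalizer (P : Set Ω)) {α : MulAut P} (hα : α ∈ X.autGroup P) :
    ∃ n ∈ (pGen p X P).map (X.autGroup P).subtype, ∃ a ∈ X.autGroup S,
      ∀ x : P, ((n⁻¹ * α) x : Ω) = a ⟨x, hP.1 x.2⟩ := by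
  have hPS := hP.1
  haveI := finite_of_le hPS
  obtain ⟨hPa, hPr⟩ := automized_receptive hS hX hP
  obtain ⟨L, hL⟩ : ∃ L, L = (pGen p X P).map (X.autGroup P).subtype := ⟨_, rfl⟩
  have hLX : L ≤ X.autGroup P := hL ▸ Subgroup.map_subtype_le _
  have hSL : autInducedBy S P ≤ L := by
    intro c hc
    obtain ⟨j, hj⟩ := isPGroup_autInducedBy hS P ⟨c, hc⟩
    obtain ⟨i, -, hi⟩ := (Nat.dvd_prime_pow (Fact.out : p.Prime)).1
      (orderOf_dvd_of_pow_eq_one (congrArg Subtype.val hj) : orderOf c ∣ p ^ j)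
    exact hL ▸ ⟨⟨c, autInducedBy_le_autGroup hPS hc⟩,
      Subgroup.subset_closure ⟨i, by rw [← hi, ← Subgroup.orderOf_coe]⟩, rfl⟩
  have hLn : ∀ b ∈ X.autGroup P, ∀ l ∈ L, b * l * b⁻¹ ∈ L := by
    rw [hL]
    rintro b hb _ ⟨l, hl, rfl⟩
    exact ⟨⟨b, hb⟩ * l * ⟨b, hb⟩⁻¹, (CfsgLib.PrimeToPIndex.pGen_normal P).conj_mem l hl _, rfl⟩
  let Z : Subgroup (MulAut P) := (autInducedBy S P).map (MulAut.conj α).toMonoidHom
  have hZL : Z ≤ L := by
    rintro _ ⟨c, hc, rfl⟩
    exact hLn α hα c (hSL hc)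
  obtain ⟨k, hk, hkZ⟩ := (IsSylowIn.mono (H := X.autGroup P) hPa.2 hSL hLX).exists_conj hZL
    ((isPGroup_autInducedBy hS P).map _)
  have haX : IsIso X (k * α : MulAut P) :=
    (mem_autGroup_iff hPS).1 (mul_mem (hLX hk) hα)
  obtain ⟨ψ, hψ, hψv⟩ := exists_extension (T := S) hPr haX fun g hg => by
    refine mem_extender_of_congr (e := (k * α : MulAut P)) ⟨hg, hn hg⟩
      (α := P.normalizerMonoidHom ⟨g, hn hg⟩) (fun _ => rfl) ?_
    rw [congr_self_eq]
    have h1 := hkZ _ ⟨P.normalizerMonoidHom ⟨g, hn hg⟩,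
      mem_autInducedBy_iff.2 ⟨g, hg, hn hg, fun _ => rfl⟩, rfl⟩
    convert h1 using 1
    show _ = k * (α * P.normalizerMonoidHom ⟨g, hn hg⟩ * α⁻¹) * k⁻¹
    group
  obtain ⟨a, ha, hav⟩ := exists_iso hψ (eq_S_of_isConj ⟨ψ, hψ, rfl⟩)
  refine ⟨k⁻¹, hL ▸ inv_mem hk, a, ha.mem_autGroup, fun x => ?_⟩
  rw [inv_inv]
  exact ((hav _).trans (hψv x _)).symm

/-- A saturated system is generated by the automorphisms of `p`-power order and those of its
subgroup. -/
theorem isSubsystemOf_of_pGen [Finite S] [Fact p.Prime] (hS : IsPGroup p S) {X : FusionSystem S}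
    (hX : X.IsSaturated p) {D : FusionSystem U} (hSU : S ≤ U)
    (hgen : ∀ P : Subgroup Ω, P ≤ S → (pGen p X P).map (X.autGroup P).subtype ≤ D.autGroup P)
    (htop : X.autGroup S ≤ D.autGroup S) : X.IsSubsystemOf D := by
  refine isSubsystemOf_of_aut hS hX fun P hP habove α hα => ?_
  have hPS := hP.1
  by_cases hPeq : P = S
  · subst hPeq
    exact (mem_autGroup_iff hSU).1 (htop hα)
  haveI := finite_of_le hPS
  obtain ⟨hPa, hPr⟩ := automized_receptive hS hX hP
  obtain ⟨g, hg, hgP⟩ := SetLike.exists_of_lt (lt_normalizerIn hS (lt_of_le_of_ne hPS hPeq))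
  let c : X.autGroup P := ⟨P.normalizerMonoidHom ⟨g, hg.2⟩,
    autInducedBy_le_autGroup hPS (mem_autInducedBy_iff.2 ⟨g, hg.1, hg.2, fun _ => rfl⟩)⟩
  refine aut_mem_of_normal hS hPa hPr habove (pGen p X P)
    (CfsgLib.PrimeToPIndex.pGen_normal P)
    (fun k hk => (mem_autGroup_iff (hPS.trans hSU)).1 (hgen P hPS ⟨k, hk, rfl⟩)) hg hgP (c := c) ?_
    (fun _ => rfl) α hα
  obtain ⟨j, hj⟩ := (isPGroup_autInducedBy hS P).exists_orderOf_dvd_pow
    ⟨c, mem_autInducedBy_iff.2 ⟨g, hg.1, hg.2, fun _ => rfl⟩⟩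
  obtain ⟨i, -, hi⟩ := (Nat.dvd_prime_pow (Fact.out : p.Prime)).1 hj
  refine Subgroup.subset_closure ⟨i, ?_⟩
  rw [← hi, ← Subgroup.orderOf_coe, ← Subgroup.orderOf_coe]

/-- A strongly closed subgroup is fully normalized. -/
theorem fullyNormalized_stronglyClosed [Finite S] {F : FusionSystem S} (hT : F.StronglyClosed T) :
    F.IsFullyNormalized T := by
  haveI := finite_of_le hT.1
  refine ⟨hT.1, fun Q hQ => ?_⟩
  obtain ⟨φ, hφ, rfl⟩ := id hQ
  have : φ.range = T := by
    refine Subgroup.eq_of_le_of_card_ge ?_ (card_eq_of_isConj hQ).le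
    rintro _ ⟨x, rfl⟩
    exact apply_mem_stronglyClosed hT hφ x.2
  rw [this]

/-- `T C_S(T)` is fully normalized. -/
theorem fullyNormalized_top [Finite S] {F : FusionSystem S} (hT : F.StronglyClosed T) :
    F.IsFullyNormalized (T ⊔ centralizerIn S T) := by
  refine ⟨sup_le hT.1 (centralizerIn_le S T), ?_⟩
  rintro Q ⟨φ, hφ, rfl⟩
  rw [CfsgLib.KernelSubsystem.range_eq_of_top hT hφ]

theorem le_normalizer_top [Finite S] {F : FusionSystem S} (hT : F.StronglyClosed T) :
    S ≤ Subgroup.normalizer ((T ⊔ centralizerIn S T : Subgroup Ω) : Set Ω) := by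
  intro g hg
  have hR : T ⊔ centralizerIn S T ≤ S := sup_le hT.1 (centralizerIn_le S T)
  haveI := finite_of_le hR
  refine CfsgLib.SatCriterion.mem_normalizer_of_finite fun y hy => ?_
  exact (CfsgLib.KernelSubsystem.range_eq_of_top hT (F.conj_mem hR hg)).le ⟨⟨y, hy⟩, rfl⟩

/-- Restriction to a strongly closed subgroup. -/
theorem exists_restrict_aut [Finite S] {F : FusionSystem S} (hT : F.StronglyClosed T)
    (hTP : T ≤ P) (hP : P ≤ S) {α : MulAut P} (hα : α ∈ F.autGroup P) :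
    ∃ β ∈ F.autGroup T, ∀ t : T, (β t : Ω) = α ⟨t, hTP t.2⟩ := by
  haveI := finite_of_le hT.1
  have hαF := (mem_autGroup_iff hP).1 hα
  have hr : (restrictHom (P.subtype.comp α.toMonoidHom) hTP).range = T := by
    refine Subgroup.eq_of_le_of_card_ge ?_ ?_
    · rintro _ ⟨x, rfl⟩
      exact apply_mem_stronglyClosed hT hαF (x := ⟨x, hTP x.2⟩) x.2
    · rw [range_restrictHom, card_imgHom (F.injective_of_mem hαF) hTP]
  obtain ⟨β, hβ, hβv⟩ := exists_iso (restrict_mem hαF hTP) hr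
  exact ⟨β, hβ.mem_autGroup, hβv⟩

variable {F : FusionSystem S} {E : FusionSystem T}

/-- Conditions on a normal subgroup `K` of `Aut_F(T)` containing `Aut_E(T)`. -/
structure StepGroup (F : FusionSystem S) (E : FusionSystem T) (K : Subgroup (MulAut T)) : Prop where
  le_autGroup : K ≤ F.autGroup T
  conj_mem : ∀ a ∈ F.autGroup T, ∀ k ∈ K, a * k * a⁻¹ ∈ K
  autGroup_le : E.autGroup T ≤ K

/-- The conclusion of a step. -/
structure StepSystem (F : FusionSystem S) (E : FusionSystem T) (p : ℕ) (K : Subgroup (MulAut T))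
    {S₁ : Subgroup Ω} (F₁ : FusionSystem S₁) : Prop where
  normal : F₁.IsNormalIn F p
  le_sup : T ⊔ centralizerIn S T ≤ S₁
  subsystem : E.IsSubsystemOf F₁
  autGroup_le : F₁.autGroup T ≤ K
  max : ∀ X : FusionSystem (T ⊔ centralizerIn S T), X.IsSaturated p → X.IsSubsystemOf F →
    X.autGroup T ≤ K → X.IsSubsystemOf F₁
  extension : ∀ α ∈ E.autGroup T, ∃ β ∈ F₁.autGroup (T ⊔ centralizerIn S T),
    (∀ x : T, ((β (Subgroup.inclusion le_sup_left x) : ↥(T ⊔ centralizerIn S T)) : Ω) = (α x : Ω)) ∧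
      ∀ c : ↥(T ⊔ centralizerIn S T), (c : Ω) ∈ centralizerIn S T →
        (c : Ω)⁻¹ * (β c : Ω) ∈ T ⊓ Subgroup.centralizer (T : Set Ω)
  limit : ∀ {U V : Subgroup Ω} (L : FusionSystem U) (M : FusionSystem V),
    L.IsResidualLimitOf F p → M.IsResidualLimitOf F₁ p → CfsgLib.FusionPIndex.SameMaps L M

/-- The step for a quotient of order prime to `p`. -/
theorem exists_pPrime_step [Finite S] [Fact p.Prime] (hS : IsPGroup p S) (hF : F.IsSaturated p)
    (hE : E.IsNormalIn F p) {K : Subgroup (MulAut T)} (hK : StepGroup F E K)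
    (hne : K ≠ F.autGroup T) (hcop : (K.relIndex (F.autGroup T)).Coprime p) :
    ∃ F₁ : FusionSystem S, StepSystem F E p K F₁ := by
  obtain ⟨⟨-, -, hinv⟩, hext⟩ := id hE
  have hT := hinv.2.1
  haveI := finite_of_le hT.1
  obtain ⟨hKG, hKn, hEK⟩ := hK
  have hKN : (K.subgroupOf (F.autGroup T)).Normal :=
    ⟨fun k hk a => hKn a a.2 k hk⟩
  haveI := hKN
  haveI : Nontrivial (F.autGroup T ⧸ K.subgroupOf (F.autGroup T)) :=
    QuotientGroup.nontrivial_iff.2 fun h => hne (le_antisymm hKG (Subgroup.subgroupOf_eq_top.1 h))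
  obtain ⟨F₁, hnor, -, hEF₁, hdesc, hres⟩ := CfsgLib.KernelSubsystem.exists_normal_subsystem hS hF hE
    (hΔ := by rw [← Subgroup.index_eq_card]; exact hcop)
    (QuotientGroup.mk' (K.subgroupOf (F.autGroup T))) (QuotientGroup.mk'_surjective _)
    (by rw [QuotientGroup.ker_mk']; exact fun a ha => hEK ha)
  have hF₁ := hnor.1.1
  have hR := CfsgLib.PPrimeResidual.residual_isPPrimeResidual hS hF
  have hRF₁ := hres _ hR
  have hsub : F₁.IsSubsystemOf F := hnor.1.2.2.1
  have hidx : F₁.HasPrimeToPIndexIn F p := ⟨hsub, fun P hP a ha =>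
    (mem_autGroup_iff hP).2 (hRF₁ P ((mem_autGroup_iff hP).1 (hR.2.1.2 P hP ha)))⟩
  -- elements of `p`-power order lie in `K`
  have hroot : ∀ a ∈ F.autGroup T, ∀ i : ℕ, a ^ p ^ i = 1 → a ∈ K := by
    intro a ha i hi
    have h1 : (QuotientGroup.mk' (K.subgroupOf (F.autGroup T)) ⟨a, ha⟩) ^ p ^ i = 1 := by
      rw [← map_pow, show (⟨a, ha⟩ : F.autGroup T) ^ p ^ i = 1 from Subtype.ext hi, map_one]
    have h2 := Nat.eq_one_of_dvd_coprimes (Nat.Coprime.pow_right i hcop)
      (orderOf_dvd_natCard (QuotientGroup.mk' (K.subgroupOf (F.autGroup T)) ⟨a, ha⟩))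
      (orderOf_dvd_of_pow_eq_one h1)
    exact (QuotientGroup.eq_one_iff (N := K.subgroupOf (F.autGroup T)) _).1
      (orderOf_eq_one_iff.1 h2)
  -- restriction to `T` of the `p`-power generation
  have hgenT : ∀ {P : Subgroup Ω} (hTP : T ≤ P) (hP : P ≤ S), ∀ n ∈
      (pGen p F P).map (F.autGroup P).subtype, ∀ b : MulAut T,
      (∀ t : T, (b t : Ω) = n ⟨t, hTP t.2⟩) → b ∈ K := by
    intro P hTP hP n hn
    obtain ⟨m, hm, rfl⟩ := hn
    induction hm using Subgroup.closure_induction with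
    | mem m hm =>
      obtain ⟨i, hi⟩ := hm
      intro b hb
      haveI := finite_of_le hP
      obtain ⟨b', hb', hb'v⟩ := exists_restrict_aut hT hTP hP m.2
      obtain rfl : b = b' := MulEquiv.ext fun t => Subtype.ext ((hb t).trans (hb'v t).symm)
      refine hroot b hb' i (MulEquiv.ext fun t => Subtype.ext ?_)
      rw [← CfsgLib.PPowerIndexNormal.pow_agree hTP (fun x => (hb x).symm) (p ^ i) t,
        show ((F.autGroup P).subtype m) ^ p ^ i = 1 by
          show (m : MulAut P) ^ p ^ i = 1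
          rw [← hi, ← Subgroup.orderOf_coe]; exact pow_orderOf_eq_one _]
      rfl
    | one =>
      intro b hb
      obtain rfl : b = 1 := MulEquiv.ext fun t => Subtype.ext (hb t)
      exact K.one_mem
    | mul m m' _ _ ih ih' =>
      intro b hb
      haveI := finite_of_le hP
      obtain ⟨b₁, -, hb₁⟩ := exists_restrict_aut hT hTP hP m.2
      obtain ⟨b₂, -, hb₂⟩ := exists_restrict_aut hT hTP hP m'.2
      obtain rfl : b = b₁ * b₂ := MulEquiv.ext fun t => Subtype.ext ((hb t).trans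
        (agree_mul (hPW := hTP) (fun x => (hb₁ x).symm) (fun x => (hb₂ x).symm) t))
      exact K.mul_mem (ih b₁ hb₁) (ih' b₂ hb₂)
    | inv m _ ih =>
      intro b hb
      haveI := finite_of_le hP
      obtain ⟨b₁, -, hb₁⟩ := exists_restrict_aut hT hTP hP m.2
      obtain rfl : b = b₁⁻¹ := MulEquiv.ext fun t => Subtype.ext ((hb t).trans
        (agree_inv (hPW := hTP) (fun x => (hb₁ x).symm) t))
      exact K.inv_mem (ih b₁ hb₁)
  have hTS := hT.1
  have hTnS : S ≤ Subgroup.normalizer (T : Set Ω) := fun g hg => mem_normalizer_stronglyClosed hT hg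
  -- the automorphisms of `T`
  have hautT : F₁.autGroup T ≤ K := by
    intro α hα
    have hT₁ : F₁.StronglyClosed T := ⟨hTS, fun R hR φ hφ x => hT.2 R hR φ (hsub R hφ) x⟩
    obtain ⟨n, hn, a, ha, hav⟩ := exists_decomp_aut hS hF₁ (fullyNormalized_stronglyClosed hT₁)
      hTnS hα
    have hle : F₁.autGroup T ≤ F.autGroup T := fun β hβ =>
      (mem_autGroup_iff hTS).2 (hsub _ ((mem_autGroup_iff hTS).1 hβ))
    have hnK : n ∈ K := by
      obtain ⟨m, hm, rfl⟩ := hn
      clear hav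
      induction hm using Subgroup.closure_induction with
      | mem m hm =>
        obtain ⟨i, hi⟩ := hm
        exact hroot _ (hle m.2) i (by
          rw [← hi, ← Subgroup.orderOf_coe]; exact pow_orderOf_eq_one _)
      | one => exact K.one_mem
      | mul m m' _ _ ih ih' => exact K.mul_mem ih ih'
      | inv m _ ih => exact K.inv_mem ih
    obtain ⟨-, β, hβ, hβv⟩ := (hdesc hTS a).1 ha
    have e : n⁻¹ * α = (β : MulAut T) := MulEquiv.ext fun t => Subtype.ext
      ((hav t).trans (hβv t).symm)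
    have hβK : (β : MulAut T) ∈ K := (QuotientGroup.eq_one_iff β).1 hβ
    have h1 := K.mul_mem hnK (e ▸ hβK)
    rwa [mul_inv_cancel_left] at h1
  have hRS : T ⊔ centralizerIn S T ≤ S := sup_le hTS (centralizerIn_le S T)
  -- the automorphisms of `T C_S(T)` acting on `T` in `K`
  have hautR : ∀ α ∈ F.autGroup (T ⊔ centralizerIn S T), ∀ b ∈ K,
      (∀ t : T, (b t : Ω) = α ⟨t, Subgroup.mem_sup_left t.2⟩) →
      α ∈ F₁.autGroup (T ⊔ centralizerIn S T) := by
    intro α hα b hb hbv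
    haveI := finite_of_le hRS
    obtain ⟨n, hn, a, ha, hav⟩ := exists_decomp_aut hS hF (fullyNormalized_top hT)
      (le_normalizer_top hT) hα
    have hnF : n ∈ F.autGroup (T ⊔ centralizerIn S T) := Subgroup.map_subtype_le _ hn
    obtain ⟨bn, hbn, hbnv⟩ := exists_restrict_aut hT le_sup_left hRS hnF
    have hbnK : bn ∈ K := hgenT le_sup_left hRS n hn bn hbnv
    have hn₁ : n ∈ F₁.autGroup (T ⊔ centralizerIn S T) := hidx.2 _ hRS hn
    have hag := agree_mul (hPW := (le_sup_left : T ≤ T ⊔ centralizerIn S T))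
      (agree_inv (fun x => (hbnv x).symm)) (fun x => (hbv x).symm)
    have ha₁ : a ∈ F₁.autGroup S := (hdesc hTS a).2 ⟨ha, ⟨bn⁻¹ * b,
      mul_mem (inv_mem hbn) (hKG hb)⟩, (QuotientGroup.eq_one_iff _).2
        (K.mul_mem (K.inv_mem hbnK) hb), fun t =>
          (hag t).symm.trans (hav (Subgroup.inclusion le_sup_left t))⟩
    have h1 : n⁻¹ * α ∈ F₁.autGroup (T ⊔ centralizerIn S T) := (mem_autGroup_iff hRS).2
      (mem_of_agree ((mem_autGroup_iff le_rfl).1 ha₁) hRS fun x => hav x)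
    have h2 := (F₁.autGroup _).mul_mem hn₁ h1
    rwa [mul_inv_cancel_left] at h2
  refine ⟨F₁, hnor, hRS, hEF₁, hautT, fun X hX hXF hXK => ?_, fun α hα => ?_,
    fun L M hL hM => limit_eq_of_index hS hnor.1 hidx hL hM⟩
  · haveI := finite_of_le hRS
    refine isSubsystemOf_of_pGen (hS.to_le hRS) hX hRS (fun P hP => ?_) fun α hα => ?_
    · have hPS := hP.trans hRS
      have hleA : X.autGroup P ≤ F.autGroup P := fun β hβ =>
        (mem_autGroup_iff hPS).2 (hXF P ((mem_autGroup_iff hP).1 hβ))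
      rw [MonoidHom.map_closure, Subgroup.closure_le]
      rintro _ ⟨a, ⟨k, hk⟩, rfl⟩
      exact hidx.2 P hPS ⟨Subgroup.inclusion hleA a, Subgroup.subset_closure
        ⟨k, by rw [orderOf_injective _ (Subgroup.inclusion_injective hleA), hk]⟩, rfl⟩
    · have hαF : α ∈ F.autGroup (T ⊔ centralizerIn S T) :=
        (mem_autGroup_iff hRS).2 (hXF _ ((mem_autGroup_iff le_rfl).1 hα))
      have hTX : X.StronglyClosed T :=
        ⟨le_sup_left, fun R hR φ hφ x => hT.2 R hR φ (hXF R hφ) x⟩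
      obtain ⟨b, hb, hbv⟩ := exists_restrict_aut hTX le_sup_left le_rfl hα
      exact hautR α hαF b (hXK hb) hbv
  · obtain ⟨β, hβ, hβ1, hβ2⟩ := hext α hα
    exact ⟨β, hautR β hβ α (hEK hα) fun t => (hβ1 t).symm, hβ1, hβ2⟩

/-- The step for an abelian quotient of `p`-power order. -/
theorem exists_pPower_step [Finite S] [Fact p.Prime] (hS : IsPGroup p S) (hF : F.IsSaturated p)
    (hE : E.IsNormalIn F p) {K : Subgroup (MulAut T)} (hK : StepGroup F E K)
    (hcomm : ∀ a ∈ F.autGroup T, ∀ b ∈ F.autGroup T, a * b * a⁻¹ * b⁻¹ ∈ K)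
    (hpow : ∀ a ∈ F.autGroup T, ∃ j : ℕ, a ^ p ^ j ∈ K) :
    ∃ (S₁ : Subgroup Ω) (F₁ : FusionSystem S₁), StepSystem F E p K F₁ := by
  classical
  obtain ⟨⟨hEs, -, hinv⟩, hext⟩ := id hE
  have hT := hinv.2.1
  have hTS := hT.1
  haveI := finite_of_le hTS
  obtain ⟨hKG, hKn, hEK⟩ := hK
  haveI hKN : (K.subgroupOf (F.autGroup T)).Normal := ⟨fun k hk a => hKn a a.2 k hk⟩
  letI : CommGroup (F.autGroup T ⧸ K.subgroupOf (F.autGroup T)) :=
    { (inferInstance : Group (F.autGroup T ⧸ K.subgroupOf (F.autGroup T))) with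
      mul_comm := fun x y => by
        obtain ⟨a, rfl⟩ := QuotientGroup.mk'_surjective (K.subgroupOf (F.autGroup T)) x
        obtain ⟨b, rfl⟩ := QuotientGroup.mk'_surjective (K.subgroupOf (F.autGroup T)) y
        refine mul_inv_eq_one.1 ?_
        rw [mul_inv_rev, ← mul_assoc, ← map_mul, ← map_inv, ← map_mul, ← map_inv, ← map_mul]
        exact (QuotientGroup.eq_one_iff _).2 (hcomm a a.2 b b.2) }
  let cT : S →* F.autGroup T :=
    { toFun := fun s => ⟨T.normalizerMonoidHom ⟨s, mem_normalizer_stronglyClosed hT s.2⟩,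
        autInducedBy_le_autGroup hTS (mem_autInducedBy_iff.2
          ⟨s, s.2, mem_normalizer_stronglyClosed hT s.2, fun _ => rfl⟩)⟩
      map_one' := Subtype.ext (map_one T.normalizerMonoidHom)
      map_mul' := fun a b => Subtype.ext (map_mul T.normalizerMonoidHom
        ⟨a, mem_normalizer_stronglyClosed hT a.2⟩ ⟨b, mem_normalizer_stronglyClosed hT b.2⟩) }
  obtain ⟨q, hqd⟩ : ∃ q : Ω → F.autGroup T ⧸ K.subgroupOf (F.autGroup T), ∀ (x : Ω) (h : x ∈ S),
      q x = QuotientGroup.mk' (K.subgroupOf (F.autGroup T)) (cT ⟨x, h⟩) :=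
    ⟨fun x => if h : x ∈ S then QuotientGroup.mk' (K.subgroupOf (F.autGroup T)) (cT ⟨x, h⟩) else 1,
      fun x h => by simp [h]⟩
  have hq : MulOn S q := fun a ha b hb => by
    rw [hqd a ha, hqd b hb, hqd _ (S.mul_mem ha hb), ← map_mul, ← map_mul]
    rfl
  have hqK : ∀ (x : Ω) (h : x ∈ S), q x = 1 ↔
      (cT ⟨x, h⟩ : MulAut T) ∈ K := fun x h => by
    rw [hqd x h]
    exact QuotientGroup.eq_one_iff _
  have hqT : ∀ t ∈ T, q t = 1 := fun t ht => (hqK t (hTS ht)).2 (hEK
    (autInducedBy_le_autGroup le_rfl (mem_autInducedBy_iff.2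
      ⟨t, ht, mem_normalizer_stronglyClosed hT (hTS ht), fun _ => rfl⟩)))
  have htop : ∀ (W : Subgroup Ω) (φ : W →* Ω), φ ∈ F.Hom W → T ≤ W → Pres q φ := by
    intro W φ hφ hTW x
    have hWS := le_left hφ
    have hr : (restrictHom φ hTW).range = T := by
      refine Subgroup.eq_of_le_of_card_ge ?_ ?_
      · rintro _ ⟨y, rfl⟩
        exact apply_mem_stronglyClosed hT hφ (x := ⟨y, hTW y.2⟩) y.2
      · rw [range_restrictHom, card_imgHom (F.injective_of_mem hφ) hTW]
    obtain ⟨a, ha, hav⟩ := exists_iso (restrict_mem hφ hTW) hr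
    obtain ⟨A₀, hA₀⟩ : ∃ A₀ : F.autGroup T, A₀ = ⟨a, ha.mem_autGroup⟩ := ⟨_, rfl⟩
    have e : cT ⟨φ x, apply_mem hφ x⟩ = A₀ * cT ⟨x, hWS x.2⟩ * A₀⁻¹ := by
      subst hA₀
      refine Subtype.ext (MulEquiv.ext fun y => ?_)
      obtain ⟨z, rfl⟩ := (a : MulAut T).surjective y
      refine Subtype.ext ?_
      show φ x * (a z : Ω) * (φ x)⁻¹ =
        ((a : MulAut T) ((cT ⟨x, hWS x.2⟩ : MulAut T) ((a : MulAut T)⁻¹ ((a : MulAut T) z))) : Ω)
      rw [MulAut.inv_apply_self]
      have h1 : ∀ w : T, ((a : MulAut T) w : Ω) = φ ⟨w, hTW w.2⟩ := hav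
      rw [h1, h1, ← map_inv, ← map_mul, ← map_mul]
      rfl
    rw [hqd _ (apply_mem hφ x), hqd _ (hWS x.2), e, map_mul, map_mul, map_inv,
      mul_comm (QuotientGroup.mk' _ A₀), mul_inv_cancel_right]
  obtain ⟨M, hM⟩ : ∃ M : Subgroup Ω, M = kNormalizer S T K := ⟨_, rfl⟩
  have hMmem : ∀ (x : Ω) (h : x ∈ S), x ∈ M ↔ q x = 1 := fun x h => by
    rw [hqK x h, hM, mem_kNormalizer]
    refine ⟨fun ⟨_, α, hα, hv⟩ => ?_, fun hc => ⟨h, _, hc, fun _ => rfl⟩⟩
    rwa [show (cT ⟨x, h⟩ : MulAut T) = α from MulEquiv.ext fun t => Subtype.ext (hv t).symm]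
  have hMS : M ≤ S := hM ▸ kNormalizer_le K
  have hMn : ∀ s ∈ S, ∀ t ∈ M, s * t * s⁻¹ ∈ M := fun s hs t ht => by
    have ht' := hMS ht
    rw [hMmem _ (S.mul_mem (S.mul_mem hs ht') (S.inv_mem hs)), hq.conj hs ht']
    exact (hMmem t ht').1 ht
  have hhyp : F.hyperfocalSubgroup p ≤ M := by
    refine (Subgroup.closure_le _).2 ?_
    rintro y ⟨P, α, x, hP, hα, rfl⟩
    have h1 : (x : Ω) ∈ S := hP x.2
    have h2 : (((α : MulAut P) x : P) : Ω) ∈ S := hP ((α : MulAut P) x).2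
    have h3 := pres_of_top hS hF hE hq hqT htop ((mem_autGroup_iff hP).1 α.2) x
    refine (hMmem _ (S.mul_mem (S.inv_mem h1) h2)).2 ?_
    rw [hq _ (S.inv_mem h1) _ h2, hq.inv h1]
    exact inv_mul_eq_one.2 h3.symm
  obtain ⟨F₁, hF₁, hi⟩ := CfsgLib.PPowerIndex.exists_pPowerIndex (Nat.card S) hS F hF M hMS hhyp
    (Nat.le_add_left _ _)
  have hnor := CfsgLib.PPowerIndexNormal.isNormalIn_of_pPowerIndex hS hF hMS hMn hF₁ hi
  haveI := finite_of_le hMS
  have hTM : T ≤ M := fun t ht => (hMmem t (hTS ht)).2 (hqT t ht)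
  have hCM : centralizerIn S T ≤ M := fun c hc => by
    refine (hMmem c hc.1).2 ((hqK c hc.1).2 ?_)
    rw [show (cT ⟨c, hc.1⟩ : MulAut T) = 1 from MulEquiv.ext fun t => Subtype.ext
      ((mem_centralizerIn'.1 hc).2 t t.2)]
    exact K.one_mem
  have hRM : T ⊔ centralizerIn S T ≤ M := sup_le hTM hCM
  have hRS : T ⊔ centralizerIn S T ≤ S := hRM.trans hMS
  have hT₁ : F₁.StronglyClosed T := ⟨hTM, fun R hR φ hφ x => hT.2 R hR φ (hi.1 R hφ) x⟩
  -- the automorphisms of `T`
  have hautT : F₁.autGroup T ≤ K := by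
    obtain ⟨R, hR⟩ := (automized_receptive (hS.to_le hMS) hF₁
      (fullyNormalized_stronglyClosed hT₁)).1.2
    have htop' := congrArg (Subgroup.map (F₁.autGroup T).subtype)
      (CfsgLib.Transfer.sylow_sup_pResidual R)
    rw [Subgroup.map_sup, ← MonoidHom.range_eq_map, Subgroup.range_subtype, hR,
      Subgroup.subgroupOf_map_subtype] at htop'
    refine htop'.ge.trans (sup_le ?_ ?_)
    · rintro α ⟨hα, -⟩
      obtain ⟨g, hg, hgn, hgα⟩ := mem_autInducedBy_iff.1 hα
      rw [show α = (cT ⟨g, hMS hg⟩ : MulAut T) from MulEquiv.ext fun t => Subtype.ext (hgα t)]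
      exact (hqK g (hMS hg)).1 ((hMmem g (hMS hg)).1 hg)
    · refine (CfsgLib.FusionPIndex.pResidual_autGroup_mono hi.1 hTM).trans ?_
      rw [CfsgLib.Transfer.map_subtype_pResidual, Subgroup.closure_le]
      rintro a ⟨ha, hcop⟩
      obtain ⟨j, hj⟩ := hpow a ha
      obtain ⟨n, hn⟩ := exists_pow_eq_self_of_coprime (n := p ^ j) (x := a) (hcop.symm.pow_left j)
      rw [SetLike.mem_coe, ← hn]
      exact K.pow_mem hj n
  refine ⟨M, F₁, hnor, hRM, ?_, hautT, fun X hX hXF _ =>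
    CfsgLib.FusionPIndex.le_of_pPowerIndex hS hX hXF hRM hRS hi, fun α hα => ?_, fun {U V} L M' hL hM' => ?_⟩
  · refine CfsgLib.FusionPIndex.isSubsystemOf_of_pResidual (hS.to_le hTS) hEs hTM fun P hP => ?_
    exact (CfsgLib.FusionPIndex.pResidual_autGroup_mono hinv.1 hP).trans (hi.2.2 P (hP.trans hTM))
  · -- the extensions
    haveI := finite_of_le hRS
    let Ext : MulAut T → MulAut ↥(T ⊔ centralizerIn S T) → Prop := fun a b =>
      (∀ x : T, (b (Subgroup.inclusion le_sup_left x) : Ω) = a x) ∧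
        ∀ c : ↥(T ⊔ centralizerIn S T), (c : Ω) ∈ centralizerIn S T →
          (c : Ω)⁻¹ * (b c : Ω) ∈ T ⊓ Subgroup.centralizer (T : Set Ω)
    have hExt1 : Ext 1 1 := ⟨fun x => rfl, fun c _ => by simp⟩
    have hExtMul : ∀ {a a' b b'}, Ext a b → Ext a' b' → Ext (a * a') (b * b') := by
      rintro a a' b b' ⟨h1, h2⟩ ⟨h1', h2'⟩
      refine ⟨agree_mul h1 h1', fun c hc => ?_⟩
      have hz := h2' c hc
      let z : ↥(T ⊔ centralizerIn S T) := c⁻¹ * b' c
      have hzC : (z : Ω) ∈ centralizerIn S T := ⟨hTS hz.1, hz.2⟩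
      show (c : Ω)⁻¹ * (b (b' c) : Ω) ∈ _
      rw [show b' c = c * z from (mul_inv_cancel_left c _).symm, map_mul, Subgroup.coe_mul,
        ← mul_assoc]
      refine mul_mem (h2 c hc) ?_
      have h3 := h2 z hzC
      rw [← mul_inv_cancel_left (z : Ω) (b z : Ω)]
      exact mul_mem hz h3
    have hExtPow : ∀ {a b}, Ext a b → ∀ n : ℕ, Ext (a ^ n) (b ^ n) := by
      intro a b h n
      induction n with
      | zero => rw [pow_zero, pow_zero]; exact hExt1
      | succ n ih => rw [pow_succ, pow_succ]; exact hExtMul ih h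
    let G : Subgroup (MulAut T) :=
      { carrier := {a | ∃ b ∈ F₁.autGroup (T ⊔ centralizerIn S T), Ext a b}
        one_mem' := ⟨1, one_mem _, hExt1⟩
        mul_mem' := fun ⟨b, hb, h⟩ ⟨b', hb', h'⟩ => ⟨b * b', mul_mem hb hb', hExtMul h h'⟩
        inv_mem' := fun {a} ⟨b, hb, h⟩ => ⟨b ^ (orderOf a - 1), pow_mem hb _, by
          have e : a⁻¹ = a ^ (orderOf a - 1) := inv_eq_of_mul_eq_one_right (by
            rw [← pow_succ', Nat.sub_add_cancel (orderOf_pos a), pow_orderOf_eq_one])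
          rw [e]
          exact hExtPow h _⟩ }
    have hG : E.autGroup T ≤ G := by
      obtain ⟨R, hR⟩ := (automized_receptive (hS.to_le hTS) hEs
        (isFullyNormalized_self (F := E))).1.2
      have htop' := congrArg (Subgroup.map (E.autGroup T).subtype)
        (CfsgLib.Transfer.sylow_sup_pResidual R)
      rw [Subgroup.map_sup, ← MonoidHom.range_eq_map, Subgroup.range_subtype, hR,
        Subgroup.subgroupOf_map_subtype] at htop'
      refine htop'.ge.trans (sup_le ?_ ?_)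
      · rintro a ⟨ha, -⟩
        obtain ⟨g, hg, -, hgα⟩ := mem_autInducedBy_iff.1 ha
        have hgW : g ∈ T ⊔ centralizerIn S T := Subgroup.mem_sup_left hg
        refine ⟨MulAut.conj ⟨g, hgW⟩, autInducedBy_le_autGroup hRM (mem_autInducedBy_iff.2
          ⟨g, hTM hg, Subgroup.le_normalizer hgW, fun x => rfl⟩), fun x => (hgα x).symm,
          fun c hc => ?_⟩
        show (c : Ω)⁻¹ * (g * c * g⁻¹) ∈ _
        have e : (c : Ω) * g = g * c := (Subgroup.mem_centralizer_iff.1 hc.2 g hg).symm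
        rw [← e, mul_inv_cancel_right, inv_mul_cancel]
        exact one_mem _
      · rw [CfsgLib.Transfer.map_subtype_pResidual, Subgroup.closure_le]
        rintro a ⟨ha, hcop⟩
        obtain ⟨b, hb, hb1, hb2⟩ := hext a ha
        obtain ⟨j, hj, hjm⟩ := CfsgLib.FusionNormal.exists_pow_coprime (p := p) b hcop
        refine ⟨b ^ j, hi.2.2 _ hRM ?_, ?_⟩
        · rw [CfsgLib.Transfer.map_subtype_pResidual]
          exact Subgroup.subset_closure ⟨pow_mem hb j, hj⟩
        · have h := hExtPow (a := a) (b := b) ⟨hb1, hb2⟩ j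
          rwa [pow_eq_pow_iff_modEq.2 hjm, pow_one] at h
    obtain ⟨b, hb, hb1, hb2⟩ := hG hα
    exact ⟨b, hb, hb1, hb2⟩
  · exact CfsgLib.FusionPIndex.residualLimit_unique
      (CfsgLib.FusionPIndex.residualLimit_of_hasPPowerIndex hL inferInstance hS hF hF₁
        hnor.1.2.2.2.1 hi) hM' inferInstance inferInstance (hS.to_le hMS) hF₁

end CfsgLib.FusionEnvelope
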